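import Cfsg.Agent.Quad.POmega
import Cfsg.Agent.QuadStd.Split
import Cfsg.Agent.Classical.SymplecticBasic
import Cfsg.Agent.Classical.SemisimpleSymp
import Mathlib.LinearAlgebra.Matrix.BilinearForm

/-!
Isometry groups of bilinear forms: sums, standard models, diagonal involutions in the commutator subgroup.
-/

set_option autoImplicit false
set_option linter.style.haveILetI false

namespace CfsgLib.PrimeGraphBC

open Module Matrix CfsgLib.Quad QuadraticMap
open LinearMap (BilinForm)

variable {F V U : Type*} [Field F] [AddCommGroup V] [Module F V] [AddCommGroup U] [Module F U]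

/-- The isometry group of a bilinear form. -/
def bIso (B : BilinForm F V) : Subgroup (V ≃ₗ[F] V) where
  carrier := {g | ∀ u v, B (g u) (g v) = B u v}
  one_mem' _ _ := rfl
  mul_mem' {g h} hg hh u v := by rw [LinearEquiv.mul_apply, LinearEquiv.mul_apply, hg, hh]
  inv_mem' {g} hg u v := by
    conv_rhs => rw [← LinearEquiv.apply_symm_apply g u, ← LinearEquiv.apply_symm_apply g v, hg]
    rfl

theorem mem_bIso {B : BilinForm F V} {g : V ≃ₗ[F] V} : g ∈ bIso B ↔ ∀ u v, B (g u) (g v) = B u v := Iff.rfl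

/-- Similar forms have isomorphic isometry groups. -/
def bIsoCongr {B : BilinForm F V} {B' : BilinForm F U} (e : V ≃ₗ[F] U) (c : F) (hc : c ≠ 0)
    (h : ∀ u v, B' (e u) (e v) = c * B u v) : bIso B ≃* bIso B' where
  toFun g := ⟨(e.symm.trans g.1).trans e, fun u v => by
    simp only [LinearEquiv.trans_apply, h]
    rw [g.2, ← h, e.apply_symm_apply, e.apply_symm_apply]⟩
  invFun g := ⟨(e.trans g.1).trans e.symm, fun u v => by
    refine mul_left_cancel₀ hc ?_
    simp only [LinearEquiv.trans_apply, ← h, e.apply_symm_apply]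
    rw [g.2]⟩
  left_inv g := Subtype.ext (LinearEquiv.ext fun v => by simp)
  right_inv g := Subtype.ext (LinearEquiv.ext fun v => by simp)
  map_mul' g h := Subtype.ext (LinearEquiv.ext fun v => by simp [LinearEquiv.mul_apply])

theorem bIsoCongr_apply {B : BilinForm F V} {B' : BilinForm F U} (e : V ≃ₗ[F] U) (c : F) (hc : c ≠ 0)
    (h : ∀ u v, B' (e u) (e v) = c * B u v) (g : bIso B) (v : V) :
    (bIsoCongr e c hc h g).1 (e v) = e (g.1 v) := by
  simp [bIsoCongr]

theorem oGroup_eq_bIso (h2 : (2 : F) ≠ 0) (Q : QuadraticForm F V) : oGroup Q = bIso (polarBilin Q) := by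
  ext g
  refine ⟨fun hg u v => polar_oGroup ⟨g, hg⟩ u v, fun hg v => mul_left_cancel₀ h2 ?_⟩
  have h := hg v v
  rw [polarBilin_apply_apply, polarBilin_apply_apply, polar_self, polar_self, nsmul_eq_mul, nsmul_eq_mul] at h
  exact_mod_cast h

theorem bIso_eq_oGroup (h2 : (2 : F) ≠ 0) {B : BilinForm F V} (hS : B.IsSymm) :
    bIso B = oGroup (LinearMap.BilinMap.toQuadraticMap B) := by
  ext g
  refine ⟨fun hg v => hg v v, fun hg u v => mul_left_cancel₀ h2 ?_⟩
  have h := polar_oGroup ⟨g, hg⟩ u v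
  rw [LinearMap.BilinMap.polar_toQuadraticMap, LinearMap.BilinMap.polar_toQuadraticMap, hS.eq (g v) (g u),
    hS.eq v u, ← two_mul, ← two_mul] at h
  exact h

theorem polar_toQ {B : BilinForm F V} (hS : B.IsSymm) (u v : V) :
    polar (LinearMap.BilinMap.toQuadraticMap B) u v = 2 * B u v := by
  rw [LinearMap.BilinMap.polar_toQuadraticMap, hS.eq v u, two_mul]

theorem nondeg_toQ (h2 : (2 : F) ≠ 0) {B : BilinForm F V} (hS : B.IsSymm) (hB : B.Nondegenerate) :
    (polarBilin (LinearMap.BilinMap.toQuadraticMap B)).Nondegenerate :=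
  ⟨fun x hx => hB.1 x fun y => (mul_eq_zero.1 ((polar_toQ hS x y).symm.trans (hx y))).resolve_left h2,
    fun y hy => hB.2 y fun x => (mul_eq_zero.1 ((polar_toQ hS x y).symm.trans (hy x))).resolve_left h2⟩

/-- Orthogonal sum. -/
def bProd (B₁ : BilinForm F V) (B₂ : BilinForm F U) : BilinForm F (V × U) :=
  B₁.compl₁₂ (LinearMap.fst F V U) (LinearMap.fst F V U) + B₂.compl₁₂ (LinearMap.snd F V U) (LinearMap.snd F V U)

theorem bProd_apply (B₁ : BilinForm F V) (B₂ : BilinForm F U) (x y : V × U) :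
    bProd B₁ B₂ x y = B₁ x.1 y.1 + B₂ x.2 y.2 := rfl

theorem bProd_symm {B₁ : BilinForm F V} {B₂ : BilinForm F U} (h₁ : B₁.IsSymm) (h₂ : B₂.IsSymm) :
    (bProd B₁ B₂).IsSymm := ⟨fun x y => by rw [bProd_apply, bProd_apply, h₁.eq, h₂.eq]⟩

theorem bProd_nondeg {B₁ : BilinForm F V} {B₂ : BilinForm F U} (h₁ : B₁.Nondegenerate) (h₂ : B₂.Nondegenerate) :
    (bProd B₁ B₂).Nondegenerate :=
  ⟨fun x hx => Prod.ext (h₁.1 _ fun y => by simpa [bProd_apply] using hx (y, 0))
    (h₂.1 _ fun y => by simpa [bProd_apply] using hx (0, y)),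
   fun x hx => Prod.ext (h₁.2 _ fun y => by simpa [bProd_apply] using hx (y, 0))
    (h₂.2 _ fun y => by simpa [bProd_apply] using hx (0, y))⟩

/-- Pairs of isometries. -/
def prodHom (B₁ : BilinForm F V) (B₂ : BilinForm F U) : bIso B₁ × bIso B₂ →* bIso (bProd B₁ B₂) where
  toFun p := ⟨p.1.1.prodCongr p.2.1, fun x y => congrArg₂ (· + ·) (p.1.2 x.1 y.1) (p.2.2 x.2 y.2)⟩
  map_one' := Subtype.ext (LinearEquiv.ext fun _ => rfl)
  map_mul' _ _ := Subtype.ext (LinearEquiv.ext fun _ => rfl)

theorem prodHom_apply {B₁ : BilinForm F V} {B₂ : BilinForm F U} (p : bIso B₁ × bIso B₂) (x : V × U) :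
    (prodHom B₁ B₂ p).1 x = (p.1.1 x.1, p.2.1 x.2) := rfl

theorem prodHom_injective {B₁ : BilinForm F V} {B₂ : BilinForm F U} : Function.Injective (prodHom B₁ B₂) :=
  (injective_iff_map_eq_one _).2 fun p hp => by
    refine Prod.ext (Subtype.ext (LinearEquiv.ext fun v => ?_)) (Subtype.ext (LinearEquiv.ext fun v => ?_))
    · exact congrArg Prod.fst (congrArg (fun g : bIso (bProd B₁ B₂) => g.1 (v, 0)) hp)
    · exact congrArg Prod.snd (congrArg (fun g : bIso (bProd B₁ B₂) => g.1 (0, v)) hp)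

theorem map_mem_commutator {G H : Type*} [Group G] [Group H] (f : G →* H) {g : G} (hg : g ∈ commutator G) :
    f g ∈ commutator H := by
  have h : (commutator G).map f ≤ commutator H := by
    rw [commutator_def, commutator_def, Subgroup.map_commutator]
    exact Subgroup.commutator_mono le_top le_top
  exact h ⟨g, hg, rfl⟩

/-- An alternating non-degenerate form is the standard one. -/
theorem exists_std_alt [FiniteDimensional F V] {B : BilinForm F V} (hA : B.IsAlt) (hB : B.Nondegenerate)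
    {m : ℕ} (hV : finrank F V = 2 * m) :
    ∃ e : V ≃ₗ[F] (Fin m ⊕ Fin m → F), ∀ u v, CfsgLib.Symp.form (e u) (e v) = B u v := by
  have hd : finrank F V = finrank F (Fin m ⊕ Fin m → F) := by
    rw [hV, Module.finrank_fintype_fun_eq_card, Fintype.card_sum, Fintype.card_fin, two_mul]
  let e₀ : V ≃ₗ[F] (Fin m ⊕ Fin m → F) := LinearEquiv.ofFinrankEq _ _ hd
  obtain ⟨φ, hφ⟩ := CfsgLib.SemiConj.exists_alt_equiv (Matrix.toBilin' (Matrix.J (Fin m) F))
    (B.compl₁₂ e₀.symm.toLinearMap e₀.symm.toLinearMap)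
    (fun x => by rw [Matrix.toBilin'_apply']; exact CfsgLib.Symp.form_self x) (fun x => hA _)
    (fun x hx => CfsgLib.Symp.eq_zero_of_form_eq_zero fun u => by
      rw [CfsgLib.Symp.form_swap, CfsgLib.Symp.form, ← Matrix.toBilin'_apply', hx u, neg_zero])
    (fun x hx => e₀.symm.injective (by
      rw [map_zero]
      exact hB.1 _ fun v => by simpa using hx (e₀ v)))
  refine ⟨e₀.trans φ, fun u v => ?_⟩
  rw [CfsgLib.Symp.form, ← Matrix.toBilin'_apply']
  simpa using hφ (e₀ u) (e₀ v)

/-- An alternating non-degenerate form has even dimension. -/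
theorem even_finrank_of_alt [FiniteDimensional F V] {B : BilinForm F V} (hA : B.IsAlt) (hB : B.Nondegenerate) :
    ∃ m, finrank F V = 2 * m := by
  obtain ⟨m, k, b, -, -, -, hrad⟩ := CfsgLib.Forms.exists_symplectic_basis _ V B hA rfl
  obtain rfl : k = 0 := by
    rcases Nat.eq_zero_or_pos k with h | h
    · exact h
    · exact absurd (hB.1 _ (hrad ⟨0, h⟩)) (b.ne_zero _)
  refine ⟨m, ?_⟩
  rw [Module.finrank_eq_card_basis b]
  simp [two_mul]

/-- The determinant of a Gram matrix is a square. -/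
def SqDet (B : BilinForm F V) : Prop :=
  ∃ b : Basis (Fin (finrank F V)) F V, IsSquare (LinearMap.BilinForm.toMatrix b B).det

theorem sqDet_iff {B : BilinForm F V} {ι : Type*} [Fintype ι] [DecidableEq ι]
    (b : Basis ι F V) : SqDet B ↔ IsSquare (LinearMap.BilinForm.toMatrix b B).det := by
  have hre : ∀ (e : ι ≃ Fin (finrank F V)),
      (LinearMap.BilinForm.toMatrix (b.reindex e) B).det = (LinearMap.BilinForm.toMatrix b B).det := fun e => by
    rw [show LinearMap.BilinForm.toMatrix (b.reindex e) B = (LinearMap.BilinForm.toMatrix b B).submatrix e.symm e.symm from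
      Matrix.ext fun i j => by simp [LinearMap.BilinForm.toMatrix_apply], Matrix.det_submatrix_equiv_self]
  let e : ι ≃ Fin (finrank F V) := Fintype.equivFinOfCardEq (Module.finrank_eq_card_basis b).symm
  refine ⟨fun ⟨c, hc⟩ => ?_, fun h => ⟨b.reindex e, (hre e).symm ▸ h⟩⟩
  rw [← hre e, ← LinearMap.BilinForm.toMatrix_mul_basis_toMatrix c (b.reindex e), Matrix.det_mul,
    Matrix.det_mul, Matrix.det_transpose, mul_comm _ (LinearMap.BilinForm.toMatrix c B).det, mul_assoc]
  exact hc.mul (IsSquare.mul_self _)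

theorem sqDet_of_alt [FiniteDimensional F V] {B : BilinForm F V} (hA : B.IsAlt) (hB : B.Nondegenerate) :
    SqDet B := by
  obtain ⟨m, hm⟩ := even_finrank_of_alt hA hB
  obtain ⟨e, he⟩ := exists_std_alt hA hB hm
  let b : Basis (Fin m ⊕ Fin m) F V := (Pi.basisFun F _).map e.symm
  rw [sqDet_iff b]
  have hJ : LinearMap.BilinForm.toMatrix b B = Matrix.J (Fin m) F := Matrix.ext fun i j => by
    rw [LinearMap.BilinForm.toMatrix_apply, ← he]
    simp [b, CfsgLib.Symp.form, Pi.basisFun_apply]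
  have hf : Matrix.J (Fin m) F = Matrix.fromBlocks 1 0 1 1 * Matrix.fromBlocks 1 (-1) 0 1 *
      Matrix.fromBlocks 1 0 1 1 := by
    simp [Matrix.J, Matrix.fromBlocks_multiply]
  rw [hJ, hf, Matrix.det_mul, Matrix.det_mul, Matrix.det_fromBlocks_zero₁₂, Matrix.det_fromBlocks_zero₂₁]
  simp

theorem sqDet_compLeft [FiniteDimensional F V] {B : BilinForm F V} (hB : B.Nondegenerate) (h : SqDet B)
    (f : Module.End F V) : SqDet (B.compLeft f) ↔ IsSquare (LinearMap.det f) := by
  classical
  obtain ⟨b, hb⟩ := h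
  have hd := (LinearMap.BilinForm.nondegenerate_iff_det_ne_zero b).1 hB
  rw [sqDet_iff b, LinearMap.BilinForm.toMatrix_compLeft, Matrix.det_mul, Matrix.det_transpose,
    LinearMap.det_toMatrix]
  refine ⟨fun h => ?_, fun h => h.mul hb⟩
  have := h.mul hb.inv
  rwa [mul_assoc, mul_inv_cancel₀ hd, mul_one] at this

variable [Finite F]

/-- An odd dimensional symmetric non-degenerate form has the standard orthogonal group. -/
theorem odd_transport [FiniteDimensional F V] (h2 : (2 : F) ≠ 0) {B : BilinForm F V} (hS : B.IsSymm)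
    (hB : B.Nondegenerate) {n : ℕ} (hV : finrank F V = 2 * n + 1) :
    Nonempty (bIso B ≃* oGroup (oddQ (F := F) n)) := by
  obtain ⟨c, φ, hc, -, hφ⟩ := CfsgLib.QuadStd.classify_odd (nondeg_toQ h2 hS hB) hV
  let d : Unit ⊕ (Fin n ⊕ Fin n) → F := Sum.elim (fun _ => 1) (Sum.elim (fun _ => c⁻¹) (fun _ => 1))
  have hd : ∀ i, d i ≠ 0 := by
    rintro (i | i | i) <;> simp [d, hc]
  let S : (Unit ⊕ (Fin n ⊕ Fin n) → F) ≃ₗ[F] (Unit ⊕ (Fin n ⊕ Fin n) → F) :=
    LinearEquiv.piCongrRight fun i => LinearEquiv.smulOfUnit (Units.mk0 (d i) (hd i))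
  have key : ∀ v, oddQ n (S (φ v)) = c⁻¹ * B v v := fun v => by
    have hs : ∀ (u : Fˣ) (x : F), LinearEquiv.smulOfUnit (R := F) (M := F) u x = (u : F) * x := fun _ _ => rfl
    rw [← LinearMap.BilinMap.toQuadraticMap_apply B v, hφ, oddQ_coe, Cfsg.quadFormOdd, Cfsg.quadFormPlus,
      mul_add, ← mul_assoc, inv_mul_cancel₀ hc, one_mul, Finset.mul_sum]
    simp [S, d, hs, mul_assoc]
  refine ⟨(bIsoCongr (φ.trans S) (2 * c⁻¹) (mul_ne_zero h2 (inv_ne_zero hc)) fun u v => ?_).trans
    (MulEquiv.subgroupCongr (oGroup_eq_bIso h2 (oddQ n)).symm)⟩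
  rw [polarBilin_apply_apply, polar, LinearEquiv.trans_apply, LinearEquiv.trans_apply, ← map_add, ← map_add,
    key, key, key, map_add, map_add, LinearMap.add_apply, LinearMap.add_apply, hS.eq v u]
  ring

/-- Diagonal involutions and the commutator subgroup. -/
theorem exists_diag [FiniteDimensional F V] (h2 : (2 : F) ≠ 0) {B : BilinForm F V} (hS : B.IsSymm)
    (hB : B.Nondegenerate) (hn : 2 ≤ finrank F V) {ι : Type*} [Fintype ι] [DecidableEq ι] (b : Basis ι F V)
    (horth : ∀ i j, i ≠ j → B (b i) (b j) = 0) (s : Finset ι) :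
    ∃ g : bIso B, (∀ j, g.1 (b j) = if j ∈ s then -b j else b j) ∧
      (Even s.card → (g ∈ commutator (bIso B) ↔ IsSquare (∏ i ∈ s, B (b i) (b i)))) := by
  classical
  set Q := LinearMap.BilinMap.toQuadraticMap B with hQdef
  have hQ := nondeg_toQ h2 hS hB
  obtain ⟨θ, hθ⟩ := exists_spinor hQ h2 hn
  have hQb : ∀ i, Q (b i) = B (b i) (b i) := fun i => rfl
  have hne : ∀ i, Q (b i) ≠ 0 := fun i h => by
    refine b.ne_zero i (hB.1 _ fun y => ?_)
    have : B (b i) = 0 := b.ext fun j => by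
      by_cases hij : i = j
      · subst hij; exact h
      · exact horth i j hij
    rw [this]; rfl
  have hpol : ∀ i j, i ≠ j → polar Q (b i) (b j) = 0 := fun i j hij => by
    rw [hQdef, polar_toQ hS, horth i j hij, mul_zero]
  have hunits : ∀ x y : ℤˣ, x * y = 1 ↔ (x = 1 ↔ y = 1) := by decide
  obtain ⟨g, hg, hd, ht⟩ : ∃ g : oGroup Q, (∀ j, g.1 (b j) = if j ∈ s then -b j else b j) ∧
      (detO Q g : F) = (-1) ^ s.card ∧ (θ g = 1 ↔ IsSquare (∏ i ∈ s, Q (b i))) := by
    induction s using Finset.induction_on with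
    | empty => exact ⟨1, fun j => by simp, by simp, by simp⟩
    | insert a s ha ih =>
      obtain ⟨g, hg, hd, ht⟩ := ih
      refine ⟨refl Q (b a) * g, fun j => ?_, ?_, ?_⟩
      · change (refl Q (b a)).1 (g.1 (b j)) = _
        rw [hg]
        by_cases hja : j = a
        · subst hja; rw [if_neg ha, if_pos (Finset.mem_insert_self _ _), refl_self (hne j)]
        · have hfix : (refl Q (b a)).1 (b j) = b j := refl_fix (hpol _ _ hja)
          simp only [Finset.mem_insert, hja, false_or]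
          split_ifs with h
          · rw [map_neg, hfix]
          · exact hfix
      · rw [map_mul, Units.val_mul, detO_refl (hne a), hd, Finset.card_insert_of_notMem ha, pow_succ']
      · have hp : ∏ i ∈ s, Q (b i) ≠ 0 := Finset.prod_ne_zero_iff.mpr fun i _ => hne i
        rw [map_mul, hunits, hθ _ (hne a), ht, Finset.prod_insert ha, isSquare_mul_iff h2 (hne a) hp]
  let E := MulEquiv.subgroupCongr (bIso_eq_oGroup h2 hS).symm
  refine ⟨E g, hg, fun hev => ?_⟩
  rw [mem_commutator_equiv E g, mem_commutator_iff hQ h2 hn hθ, ht, Units.ext_iff, hd, hev.neg_one_pow]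
  exact and_iff_right rfl

omit [Finite F] in
theorem exists_orth_basis [FiniteDimensional F V] (h2 : (2 : F) ≠ 0) {B : BilinForm F V} (hS : B.IsSymm) :
    ∃ b : Basis (Fin (finrank F V)) F V, ∀ i j, i ≠ j → B (b i) (b j) = 0 := by
  haveI : Invertible (2 : F) := invertibleOfNonzero h2
  obtain ⟨b, hb⟩ := LinearMap.BilinForm.exists_orthogonal_basis (B := B) ⟨fun x y => hS.eq x y⟩
  exact ⟨b, fun i j hij => hb hij⟩

/-- In dimension at least three the commutator subgroup contains an involution. -/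
theorem exists_invol [FiniteDimensional F V] (h2 : (2 : F) ≠ 0) {B : BilinForm F V} (hS : B.IsSymm)
    (hB : B.Nondegenerate) (hn : 3 ≤ finrank F V) :
    ∃ t : bIso B, t ∈ commutator (bIso B) ∧ orderOf t = 2 := by
  classical
  obtain ⟨b, hb⟩ := exists_orth_basis h2 hS
  obtain ⟨i, j, hij, hsq⟩ : ∃ i j, i ≠ j ∧ IsSquare (B (b i) (b i) * B (b j) (b j)) := by
    have hne : ∀ i, B (b i) (b i) ≠ 0 := fun i h => b.ne_zero i (hB.1 _ fun y => by
      rw [show B (b i) = 0 from b.ext fun j => by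
        by_cases hij : i = j
        · subst hij; exact h
        · exact hb i j hij]
      rfl)
    obtain ⟨i, j, hij, h⟩ := Fintype.exists_ne_map_eq_of_card_lt
      (fun i : Fin (finrank F V) => (decide (IsSquare (B (b i) (b i))) : Bool)) (by simp; omega)
    exact ⟨i, j, hij, (isSquare_mul_iff h2 (hne i) (hne j)).2 (decide_eq_decide.1 h)⟩
  obtain ⟨g, hg, hmem⟩ := exists_diag h2 hS hB (by omega) b hb {i, j}
  refine ⟨g, (hmem (by rw [Finset.card_pair hij]; exact even_two)).2 (by rwa [Finset.prod_pair hij]),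
    orderOf_eq_prime ?_ fun h => ?_⟩
  · refine Subtype.ext (LinearEquiv.toLinearMap_injective (b.ext fun k => ?_))
    show (g ^ 2).1 (b k) = b k
    rw [pow_two, Subgroup.coe_mul, LinearEquiv.mul_apply, hg]
    split_ifs with hk
    · rw [map_neg, hg, if_pos hk, neg_neg]
    · rw [hg, if_neg hk]
  · have h1 := hg i
    rw [h, if_pos (Finset.mem_insert_self i _)] at h1
    have h3 : (2 : F) • b i = 0 := by
      rw [two_smul]; nth_rewrite 1 [show b i = -b i from h1]; exact neg_add_cancel _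
    exact b.ne_zero i ((smul_eq_zero.1 h3).resolve_left h2)

/-- When `-1` on a hyperplane lies in the commutator subgroup. -/
theorem negPart_mem_iff [FiniteDimensional F V] [FiniteDimensional F U] (h2 : (2 : F) ≠ 0)
    {B₁ : BilinForm F V} {B₂ : BilinForm F U} (h₁ : B₁.IsSymm) (n₁ : B₁.Nondegenerate) (h₂ : B₂.IsSymm)
    (n₂ : B₂.Nondegenerate) (hU : finrank F U = 1) (hV : Even (finrank F V)) (hV2 : 2 ≤ finrank F V)
    (t : bIso B₁) (ht : ∀ v, t.1 v = -v) :
    prodHom B₁ B₂ (t, 1) ∈ commutator (bIso (bProd B₁ B₂)) ↔ SqDet B₁ := by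
  classical
  obtain ⟨b, hb⟩ := exists_orth_basis h2 h₁
  let c := Module.finBasisOfFinrankEq F U hU
  obtain ⟨g, hg, hmem⟩ := exists_diag h2 (bProd_symm h₁ h₂) (bProd_nondeg n₁ n₂)
    (by rw [Module.finrank_prod]; omega) (b.prod c) (by
      rintro (i | i) (j | j) hij <;> simp [bProd_apply]
      · exact hb i j fun e => hij (by rw [e])
      · exact absurd (congrArg Sum.inr (Subsingleton.elim i j)) hij) (Finset.univ.map Function.Embedding.inl)
  have hgt : g = prodHom B₁ B₂ (t, 1) := by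
    refine Subtype.ext (LinearEquiv.toLinearMap_injective ((b.prod c).ext fun k => ?_))
    show g.1 _ = (t.1 _, _)
    rw [hg]
    rcases k with k | k <;> simp [ht]
  rw [← hgt, hmem (by simpa using hV), sqDet_iff b, Finset.prod_map]
  rw [show LinearMap.BilinForm.toMatrix b B₁ = Matrix.diagonal fun i => B₁ (b i) (b i) from Matrix.ext fun i j => by
    rw [LinearMap.BilinForm.toMatrix_apply]
    by_cases hij : i = j
    · subst hij; simp
    · simp [hij, hb i j hij], Matrix.det_diagonal]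
  simp [bProd_apply]

end CfsgLib.PrimeGraphBC
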