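import Cfsg.Agent.PrimeGraphBC.Odd

/-!
An element of order twice an odd prime passes between `POmega_{2n+1}` and `PSp_{2n}`.
-/

set_option autoImplicit false
set_option linter.style.haveILetI false
set_option maxHeartbeats 400000

namespace CfsgLib.PrimeGraphBC

open Module Matrix CfsgLib.Quad QuadraticMap
open LinearMap (BilinForm)

variable {F : Type*} [Field F] [Fintype F] {p : ℕ} [CharP F p] [hp : Fact p.Prime] {n : ℕ} {s : ℕ}

omit [CharP F p] hp in
theorem commute_two_mul {G : Type*} [Group G] {H : Subgroup G} {x t : G} (hx : x ∈ H) (ht : t ∈ H) (hc : Commute x t)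
    (hs : s.Prime) (hs2 : s ≠ 2) (hxo : orderOf x = s) (hto : orderOf t = 2) :
    ∃ g ∈ H, orderOf g = 2 * s :=
  ⟨x * t, mul_mem hx ht, by
    rw [hc.orderOf_mul_eq_mul_orderOf_of_coprime
      (by rw [hxo, hto]; exact (Nat.coprime_primes hs Nat.prime_two).2 hs2), hxo, hto, mul_comm]⟩

theorem pomega_two_p (h2 : (2 : F) ≠ 0) (hp2 : p ≠ 2) (hn : 3 ≤ n) :
    ∃ g ∈ commutator (oGroup (oddQ (F := F) n)), orderOf g = 2 * p := by
  have hS : LinearMap.BilinForm.IsSymm (polarBilin (plusQ (F := F) (n - 1))) := ⟨fun u v => polar_comm _ u v⟩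
  have hd : finrank F (Fin (n - 1) ⊕ Fin (n - 1) → F) = 2 * (n - 1) := by simp; omega
  obtain ⟨t, ht, hto⟩ := exists_invol h2 hS (plusQ_nondeg (n - 1)) (by omega)
  obtain ⟨u, hu⟩ := exists_odd_order_p (F := F) (p := p) h2 (k := 1) le_rfl
  obtain ⟨Ψ, hΨ⟩ := exists_odd_embed h2 hS (plusQ_nondeg (n - 1)) (k := 1) (n := n) hd (by omega)
  let E := MulEquiv.subgroupCongr (oGroup_eq_bIso h2 (oddQ (F := F) 1))
  have ho : orderOf (Ψ (1, E u)) = p := by
    rw [orderOf_injective _ hΨ, Prod.orderOf_mk, orderOf_one, Nat.lcm_one_left, E.orderOf_eq, hu]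
  refine commute_two_mul (x := Ψ (1, E u)) (t := Ψ (t, 1))
    (odd_mem_commutator h2 (oddQ_nondeg h2 n) (by simp; omega) (ho ▸ hp.out.odd_of_ne_two hp2))
    (map_mem_commutator (Ψ.comp (MonoidHom.inl _ _)) ht)
    ((MonoidHom.commute_inl_inr t (E u)).symm.map Ψ) hp.out hp2 ho ?_
  rw [orderOf_injective _ hΨ, Prod.orderOf_mk, orderOf_one, Nat.lcm_one_right, hto]

theorem psp_two_p (h2 : (2 : F) ≠ 0) (hp2 : p ≠ 2) (hn : 2 ≤ n) :
    ∃ y : Cfsg.PSp n F, orderOf y = 2 * p := by
  obtain ⟨z, hz⟩ := exists_sp_order_p (F := F) (p := p) (k := 1) le_rfl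
  obtain ⟨y, hy⟩ := CfsgLib.SpecAbsorb.exists_pair (n := n) (fun h : (1 : F) = -1 => h2 (by linear_combination h))
    le_rfl (show 1 ≤ n - 1 by omega) (by omega) z 1 (hz ▸ hp.out.odd_of_ne_two hp2) (by rw [orderOf_one]; exact odd_one)
  rw [hz, orderOf_one, Nat.lcm_one_right] at hy
  exact CfsgLib.Spectrum.exists_orderOf_eq_of_dvd (orderOf_pos y) hy

omit [CharP F p] hp [Fintype F] in
theorem sqDet_of_neg_sq {V : Type*} [AddCommGroup V] [Module F V] [FiniteDimensional F V] {B : BilinForm F V}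
    (h2 : (2 : F) ≠ 0) {g : bIso B} {a : ℕ} (h : Good g a) {ε : F} (hε : ∀ u v, B v u = ε * B u v)
    (hB : B.Nondegenerate) (hWA : (BW g a).IsAlt) (tC : Cg g)
    (hT2 : ∀ w, (toW g a tC).1 ((toW g a tC).1 w) = -w) : SqDet (BZ g a) := by
  have hWn := BW_nondeg h hε hB
  rw [BZ_eq, sqDet_compLeft hWn (sqDet_of_alt hWA hWn)]
  -- `h(z T u, v)` is alternating
  set TL : Module.End F (Wsp g a) := (toW g a tC).1.toLinearMap with hTL
  have hT2' : ∀ w, TL (TL w) = -w := hT2
  have hTB : ∀ u v, BW g a (TL u) (TL v) = BW g a u v := fun u v => (toW g a tC).2 u v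
  have hzT : ∀ w, skewW g a (TL w) = TL (skewW g a w) := fun w => Subtype.ext (skew_comm tC (w : V))
  have halt : ((BW g a).compLeft (skewW g a * TL)).IsAlt := fun w => by
    show BW g a (skewW g a (TL w)) w = 0
    have e1 : BW g a (skewW g a (TL w)) w = -BW g a (TL w) (skewW g a w) := skew_adj (g := g) _ _
    have e2 : BW g a (TL w) (skewW g a w) = -BW g a w (skewW g a (TL w)) := by
      rw [← hTB (TL w) (skewW g a w), hT2', map_neg, LinearMap.neg_apply, hzT]
    have e3 : BW g a w (skewW g a (TL w)) = -BW g a (skewW g a (TL w)) w :=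
      (LinearMap.BilinForm.IsAlt.neg_eq hWA _ _).symm
    have h4 : (2 : F) * BW g a (skewW g a (TL w)) w = 0 := by linear_combination e1 - e2 + e3
    exact (mul_eq_zero.1 h4).resolve_left h2
  have hTinj : Function.Injective TL := (toW g a tC).1.injective
  have hzi : Function.Injective (skewW g a) := (injective_iff_map_eq_zero _).2 fun w hw =>
    Subtype.ext (skew_injOn h w.2 (congrArg Subtype.val hw))
  have hnd' : ((BW g a).compLeft (skewW g a * TL)).Nondegenerate :=
    LinearMap.BilinForm.Nondegenerate.ofSeparatingLeft fun w hw => hTinj (hzi (by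
      rw [map_zero, map_zero]; exact hWn.1 _ hw))
  have hsq := (sqDet_compLeft hWn (sqDet_of_alt hWA hWn) _).1 (sqDet_of_alt halt hnd')
  have hdT : LinearMap.det TL = 1 := CfsgLib.OrderBC.det_eq_one_of_isometry _ hWn TL hTB fun w hw => by
    have h3 := hT2' w
    rw [hw, map_neg, hw, neg_neg] at h3
    exact (smul_eq_zero.1 (show (2 : F) • w = 0 by
      rw [two_smul]; nth_rewrite 1 [h3]; exact neg_add_cancel w)).resolve_left h2
  rwa [map_mul, hdT, mul_one] at hsq

section line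

variable {W U : Type*} [AddCommGroup W] [Module F W] [FiniteDimensional F W] [AddCommGroup U] [Module F U]
  [FiniteDimensional F U] {B₁ : BilinForm F W} {B₂ : BilinForm F U}

/-- The isometry `-1`. -/
def negB (B₁ : BilinForm F W) : bIso B₁ := ⟨LinearEquiv.neg F, fun u v => by
  simp only [LinearEquiv.neg_apply, map_neg, LinearMap.neg_apply, neg_neg]⟩

omit [CharP F p] hp [Fintype F] [FiniteDimensional F W] in
theorem negB_apply (w : W) : (negB B₁).1 w = -w := rfl

omit [CharP F p] hp [Fintype F] [FiniteDimensional F W] in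
theorem negB_sq : negB B₁ * negB B₁ = 1 := Subtype.ext (LinearEquiv.ext fun w => neg_neg w)

omit [CharP F p] hp [Fintype F] [FiniteDimensional F W] in
theorem negB_comm (z : bIso B₁) : Commute (negB B₁) z :=
  Subtype.ext (LinearEquiv.ext fun w => (map_neg z.1 w).symm)

omit [CharP F p] hp [Fintype F] [FiniteDimensional F W] in
theorem negB_ne_one (h2 : (2 : F) ≠ 0) {m : ℕ} (hm : finrank F W = 2 * m) (hm1 : 1 ≤ m) :
    negB B₁ ≠ 1 := fun e => by
  haveI := Module.nontrivial_of_finrank_pos (R := F) (M := W) (by omega)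
  obtain ⟨w, hw⟩ := exists_ne (0 : W)
  have h3 : -w = w := congrArg (fun z : bIso B₁ => z.1 w) e
  exact hw ((smul_eq_zero.1 (show (2 : F) • w = 0 by
    rw [two_smul]; nth_rewrite 1 [← h3]; exact neg_add_cancel w)).resolve_left h2)

omit [CharP F p] hp [Fintype F] [FiniteDimensional F W] [FiniteDimensional F U] in
theorem orderOf_prodHom_two {z : bIso B₁} {c : bIso B₂} (hz : z * z = 1) (hc : c * c = 1) (hz1 : z ≠ 1) :
    orderOf (prodHom B₁ B₂ (z, c)) = 2 :=
  orderOf_eq_prime (by rw [pow_two, ← map_mul, Prod.mk_mul_mk, hz, hc, ← Prod.one_eq_mk, map_one])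
    (fun e => hz1 (congrArg Prod.fst (prodHom_injective (e.trans (map_one _).symm))))

omit [CharP F p] hp [Fintype F] [FiniteDimensional F W] [FiniteDimensional F U] in
theorem prodHom_comm {x z : bIso B₁} {c : bIso B₂} (hz : Commute x z) :
    Commute (prodHom B₁ B₂ (x, 1)) (prodHom B₁ B₂ (z, c)) :=
  Commute.map (show Commute (x, (1 : bIso B₂)) (z, c) from Prod.ext hz.eq (Commute.one_left c).eq) _

omit [CharP F p] hp in
theorem exists_invol_neg (h2 : (2 : F) ≠ 0) (h₁ : B₁.IsSymm) (n₁ : B₁.Nondegenerate) (h₂ : B₂.IsSymm)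
    (n₂ : B₂.Nondegenerate) (hU : finrank F U = 1) {m : ℕ} (hm : finrank F W = 2 * m) (hm1 : 1 ≤ m)
    (x : bIso B₁) (hsq : SqDet B₁) :
    ∃ t : bIso (bProd B₁ B₂), t ∈ commutator (bIso (bProd B₁ B₂)) ∧ orderOf t = 2 ∧
      Commute (prodHom B₁ B₂ (x, 1)) t :=
  ⟨prodHom B₁ B₂ (negB B₁, 1), (negPart_mem_iff h2 h₁ n₁ h₂ n₂ hU (hm ▸ even_two_mul m) (by omega) _
      negB_apply).2 hsq, orderOf_prodHom_two negB_sq (one_mul 1) (negB_ne_one h2 hm hm1),
    prodHom_comm (negB_comm x).symm⟩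

omit [CharP F p] hp in
theorem exists_invol_line (h2 : (2 : F) ≠ 0) (h₁ : B₁.IsSymm) (n₁ : B₁.Nondegenerate) (h₂ : B₂.IsSymm)
    (n₂ : B₂.Nondegenerate) (hU : finrank F U = 1) {m : ℕ} (hm : finrank F W = 2 * m)
    (x T : bIso B₁) (hT : T * T = 1) (hT1 : ¬ ∀ w, T.1 w = w) (hT2 : ¬ ∀ w, T.1 w = -w) (hc : Commute x T) :
    ∃ t : bIso (bProd B₁ B₂), t ∈ commutator (bIso (bProd B₁ B₂)) ∧ orderOf t = 2 ∧
      Commute (prodHom B₁ B₂ (x, 1)) t := by
  have hm1 : 1 ≤ m := by
    by_contra hm0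
    haveI : Subsingleton W := (Module.finrank_zero_iff (R := F)).1 (by omega)
    exact hT1 fun w => Subsingleton.elim _ _
  set δ : Fˣ := LinearEquiv.det T.1 with hδ
  have hδ2 : δ * δ = 1 := by rw [hδ, ← map_mul, ← Subgroup.coe_mul, hT, Subgroup.coe_one, map_one]
  let sc : bIso B₂ := ⟨LinearEquiv.smulOfUnit δ, fun u v => by
    show B₂ ((δ : F) • u) ((δ : F) • v) = B₂ u v
    simp only [map_smul, LinearMap.smul_apply, smul_eq_mul]
    rw [← mul_assoc, ← Units.val_mul, hδ2, Units.val_one, one_mul]⟩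
  have hsc : sc * sc = 1 := Subtype.ext (LinearEquiv.ext fun u => by
    show (δ : F) • ((δ : F) • u) = u
    rw [smul_smul, ← Units.val_mul, hδ2, Units.val_one, one_smul])
  have hdet : ∀ (z : bIso B₁) (c : bIso B₂), ((LinearEquiv.det (prodHom B₁ B₂ (z, c)).1 : Fˣ) : F) =
      (LinearEquiv.det z.1 : F) * (LinearEquiv.det c.1 : F) := fun z c => by
    rw [LinearEquiv.coe_det, LinearEquiv.coe_det, LinearEquiv.coe_det, ← LinearMap.det_prodMap]
    rfl
  have hdsc : (LinearEquiv.det sc.1 : F) = δ := by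
    rw [LinearEquiv.coe_det, show sc.1.toLinearMap = (δ : F) • LinearMap.id from LinearMap.ext fun _ => rfl,
      LinearMap.det_smul, LinearMap.det_id, mul_one, hU, pow_one]
  have hdng : (LinearEquiv.det (negB B₁).1 : F) = 1 := by
    rw [LinearEquiv.coe_det, show (negB B₁).1.toLinearMap = (-1 : F) • LinearMap.id from
      LinearMap.ext fun w => (neg_one_smul F w).symm, LinearMap.det_smul, LinearMap.det_id, mul_one, hm,
      (even_two_mul m).neg_one_pow]
  set t1 := prodHom B₁ B₂ (T, sc) with ht1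
  set t2 := prodHom B₁ B₂ (negB B₁, 1) with ht2
  have hfr : 2 ≤ finrank F (W × U) := by rw [Module.finrank_prod, hU, hm]; omega
  have hnQ := nondeg_toQ h2 (bProd_symm h₁ h₂) (bProd_nondeg n₁ n₂)
  obtain ⟨θ, hθ⟩ := exists_spinor hnQ h2 hfr
  let EQ := MulEquiv.subgroupCongr (bIso_eq_oGroup h2 (bProd_symm h₁ h₂))
  have hiff : ∀ t : bIso (bProd B₁ B₂), LinearEquiv.det t.1 = 1 → θ (EQ t) = 1 →
      t ∈ commutator (bIso (bProd B₁ B₂)) := fun t hd hθt =>
    (mem_commutator_equiv EQ t).1 ((mem_commutator_iff hnQ h2 hfr hθ _).2 ⟨hd, hθt⟩)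
  have hd1 : LinearEquiv.det t1.1 = 1 := Units.ext (by rw [ht1, hdet, hdsc, ← hδ, ← Units.val_mul, hδ2])
  have hd2 : LinearEquiv.det t2.1 = 1 := Units.ext (by
    rw [ht2, hdet, hdng, one_mul, Subgroup.coe_one, map_one])
  have hne1 : T ≠ 1 := fun e => hT1 fun w => by rw [e]; rfl
  rcases Int.units_eq_one_or (θ (EQ t1)) with e1 | e1
  · exact ⟨t1, hiff _ hd1 e1, orderOf_prodHom_two hT hsc hne1, prodHom_comm hc⟩
  rcases Int.units_eq_one_or (θ (EQ t2)) with e2 | e2
  · exact ⟨t2, hiff _ hd2 e2, orderOf_prodHom_two negB_sq (one_mul 1) (negB_ne_one h2 hm hm1),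
      prodHom_comm (negB_comm x).symm⟩
  refine ⟨t1 * t2, hiff _ (by rw [Subgroup.coe_mul, map_mul, hd1, hd2, one_mul])
    (by rw [map_mul, map_mul, e1, e2]; decide), ?_, (prodHom_comm hc).mul_right (prodHom_comm (negB_comm x).symm)⟩
  rw [ht1, ht2, ← map_mul, Prod.mk_mul_mk, mul_one]
  refine orderOf_prodHom_two ?_ hsc fun e => hT2 fun w => ?_
  · rw [(negB_comm T).mul_mul_mul_comm, hT, negB_sq, one_mul]
  · have h3 : T = negB B₁ := by
      calc T = T * (negB B₁ * negB B₁) := by rw [negB_sq, mul_one]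
        _ = negB B₁ := by rw [← mul_assoc, e, one_mul]
    rw [h3]; rfl

end line

theorem pomega_of_psp_two (h2 : (2 : F) ≠ 0) (hn : 1 ≤ n) (hs : s.Prime) (hs2 : s ≠ 2) (hsp : s ≠ p)
    (y : Cfsg.PSp n F) (hy : orderOf y = 2 * s) :
    ∃ g ∈ commutator (oGroup (oddQ (F := F) n)), orderOf g = 2 * s := by
  classical
  have hodd := hs.odd_of_ne_two hs2
  have h1 : (1 : F) ≠ -1 := fun h => h2 (by linear_combination h)
  have hy2 : orderOf (y ^ 2) = s := by
    rw [orderOf_pow_of_dvd two_ne_zero (hy ▸ dvd_mul_right 2 s), hy, Nat.mul_div_cancel_left _ two_pos]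
  have hys : orderOf (y ^ s) = 2 := by
    rw [orderOf_pow_of_dvd hs.ne_zero (hy ▸ dvd_mul_left s 2), hy, Nat.mul_div_cancel _ hs.pos]
  obtain ⟨X, hX, hXa⟩ := lift_odd hodd (hy2 ▸ pow_orderOf_eq_one (y ^ 2))
  have hXo : orderOf X = s := orderOf_of_mk hXa (hX ▸ hy2)
  obtain ⟨T, hT⟩ := QuotientGroup.mk_surjective (y ^ s)
  have hTT : (T * T).1 = 1 ∨ (T * T).1 = -1 := CfsgLib.Symp.mem_center_iff.1 ((QuotientGroup.eq_one_iff _).1 (by
    rw [QuotientGroup.mk_mul, hT, ← pow_two, ← hys, pow_orderOf_eq_one]))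
  have hTZ : T.1 ≠ 1 ∧ T.1 ≠ -1 := by
    rw [← not_or, ← CfsgLib.Symp.mem_center_iff]
    intro h
    rw [(QuotientGroup.eq_one_iff T).2 h] at hT
    rw [← hT, orderOf_one] at hys
    omega
  have hcXT : Commute X T := by
    have hc : T * X * T⁻¹ * X⁻¹ ∈ Subgroup.center (Matrix.symplecticGroup (Fin n) F) := (QuotientGroup.eq_one_iff _).1 (by
      rw [QuotientGroup.mk_mul, QuotientGroup.mk_mul, QuotientGroup.mk_mul, QuotientGroup.mk_inv,
        QuotientGroup.mk_inv, hX, hT, ← pow_add, add_comm s 2, pow_add]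
      group)
    obtain ⟨c, hcd⟩ : ∃ c, c = T * X * T⁻¹ * X⁻¹ := ⟨_, rfl⟩
    rw [← hcd] at hc
    have hcc : c ^ 2 = 1 := Subtype.ext (by
      rcases CfsgLib.Symp.mem_center_iff.1 hc with e | e <;> simp [SubmonoidClass.coe_pow, e])
    have hconj : T * X * T⁻¹ = c * X := by rw [hcd]; group
    have hcX : Commute c X := ((Subgroup.mem_center_iff.1 hc) X).symm
    have hcs : c ^ s = 1 := by
      have := congrArg (fun g => g ^ s) hconj
      simp only [conj_pow, hXa, mul_one, mul_inv_cancel, hcX.mul_pow] at this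
      exact this.symm
    have hc1 : c = 1 := by
      obtain ⟨w, rfl⟩ := hodd
      rwa [pow_succ, pow_mul, hcc, one_pow, one_mul] at hcs
    rw [hc1, one_mul] at hconj
    exact (mul_inv_eq_iff_eq_mul.1 hconj).symm
  set g := fromSp n X with hgd
  have hgo : orderOf g = s := (orderOf_injective _ (fromSp_injective n) X).trans hXo
  have h : Good g s := good_of_order hodd hgo
    (fun q hq hqs => by rwa [(Nat.prime_dvd_prime_iff_eq hq hs).1 hqs]) hp.out
  have hε : ∀ u v, stdB (F := F) n v u = (-1 : F) * stdB (F := F) n u v := fun u v => by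
    rw [neg_one_mul]; exact (LinearMap.BilinForm.IsAlt.neg_eq (stdB_alt n) u v).symm
  have hWn := BW_nondeg h hε (stdB_nondeg n)
  have hnd := BZ_nondeg h hε (stdB_nondeg n)
  have hS := BZ_symm_of_alt s (stdB_alt n) (g := g)
  have hWA : (BW g s).IsAlt := fun w => stdB_alt n _
  obtain ⟨m, hm⟩ := even_finrank_of_alt hWA hWn
  have hadd := finrank_add h
  have hdim : finrank F (Fin n ⊕ Fin n → F) = 2 * n := by simp; omega
  obtain ⟨Ψ, hΨ⟩ := exists_odd_embed h2 hS hnd (k := n - m) (n := n) hm (by omega)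
  set x := toZ g s (gC g) with hxd
  have hxo : orderOf (Ψ (x, 1)) = s := by
    rw [orderOf_injective _ hΨ, Prod.orderOf_mk, orderOf_one, Nat.lcm_one_right, orderOf_toZ,
      orderOf_toW_gC h, hgo]
  have hxmem := odd_mem_commutator h2 (oddQ_nondeg h2 n (F := F)) (by simp; omega) (hxo ▸ hodd)
  rcases Nat.lt_or_ge m n with hmn | hmn
  · have hd : finrank F (Unit ⊕ (Fin (n - m) ⊕ Fin (n - m)) → F) = 2 * (n - m) + 1 := by simp; omega
    obtain ⟨t, ht, hto⟩ := exists_invol h2 (B := polarBilin (oddQ (F := F) (n - m)))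
      ⟨fun u v => polar_comm _ u v⟩ (oddQ_nondeg h2 _) (by omega)
    exact commute_two_mul hxmem (map_mem_commutator (Ψ.comp (MonoidHom.inr _ _)) ht)
      ((MonoidHom.commute_inl_inr x t).map Ψ) hs hs2 hxo
      (by show orderOf (Ψ (1, t)) = 2
          rw [orderOf_injective _ hΨ, Prod.orderOf_mk, orderOf_one, Nat.lcm_one_left, hto])
  haveI : Subsingleton (Usp g s) :=
    (Module.finrank_zero_iff (R := F)).1 (show finrank F (Usp g s) = 0 by omega)
  let tC : Cg g := ⟨fromSp n T, Subgroup.mem_centralizer_singleton_iff.2 (hcXT.map (fromSp n)).symm.eq⟩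
  set TW := toW g s tC with hTW
  have hTWv : ∀ w : Wsp g s, ((TW.1 w : Wsp g s) : Fin n ⊕ Fin n → F) = T.1 *ᵥ w := fun w =>
    (toW_apply g s tC w).trans (fromSp_apply T _)
  have hmv : ∀ M : Matrix (Fin n ⊕ Fin n) (Fin n ⊕ Fin n) F, (∀ w : Wsp g s, M *ᵥ (w : _ → F) = w) → M = 1 :=
    fun M hM => Matrix.ext_iff_smul.2 fun v => by
      obtain ⟨w, u, rfl⟩ := exists_split h v
      rw [Subsingleton.elim u 0, ZeroMemClass.coe_zero, add_zero, Matrix.smul_eq_mulVec, Matrix.smul_eq_mulVec,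
        hM, Matrix.one_mulVec]
  let B₂ : BilinForm F (Unit ⊕ (Fin (n - m) ⊕ Fin (n - m)) → F) := polarBilin (oddQ (F := F) (n - m))
  have h₂ : LinearMap.BilinForm.IsSymm B₂ := ⟨fun u v => polar_comm _ u v⟩
  have n₂ : B₂.Nondegenerate := oddQ_nondeg h2 _
  have hU1 : finrank F (Unit ⊕ (Fin (n - m) ⊕ Fin (n - m)) → F) = 1 := by simp; omega
  obtain ⟨t, ht, hto, htc⟩ : ∃ t : bIso (bProd (BZ g s) B₂), t ∈ commutator (bIso (bProd (BZ g s) B₂)) ∧
      orderOf t = 2 ∧ Commute (prodHom (BZ g s) B₂ (x, 1)) t := by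
    rcases hTT with hTT | hTT
    · refine exists_invol_line h2 hS hnd h₂ n₂ hU1 hm x (toZ g s tC) ?_ (fun e => hTZ.1 (hmv _ fun w => ?_))
        (fun e => hTZ.2 ?_) (Commute.map (Subtype.ext (hcXT.map (fromSp n)).eq) (toZ g s))
      · rw [← map_mul, show tC * tC = 1 from Subtype.ext (by
          show fromSp n T * fromSp n T = 1
          rw [← map_mul, show T * T = 1 from Subtype.ext hTT, map_one]), map_one]
      · rw [← hTWv]
        exact congrArg Subtype.val (e w)
      · rw [← neg_inj, neg_neg]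
        refine hmv _ fun w => ?_
        rw [Matrix.neg_mulVec, ← hTWv, neg_eq_iff_eq_neg]
        exact congrArg Subtype.val (e w)
    · have hneg : ∀ w, (toW g s tC).1 ((toW g s tC).1 w) = -w := fun w => Subtype.ext (by
        show ((TW.1 (TW.1 w) : Wsp g s) : Fin n ⊕ Fin n → F) = -(w : Fin n ⊕ Fin n → F)
        rw [hTWv, hTWv, Matrix.mulVec_mulVec, ← Submonoid.coe_mul, hTT, Matrix.neg_mulVec, Matrix.one_mulVec])
      exact exists_invol_neg h2 hS hnd h₂ n₂ hU1 hm (by omega) x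
        (sqDet_of_neg_sq h2 h hε (stdB_nondeg n) hWA tC hneg)
  obtain ⟨E⟩ := odd_transport h2 (bProd_symm hS h₂) (bProd_nondeg hnd n₂) (n := n) (by
    rw [Module.finrank_prod, hU1, hm]; omega)
  have ho : orderOf (E (prodHom (BZ g s) B₂ (x, 1))) = s := by
    rw [E.orderOf_eq, orderOf_injective _ prodHom_injective, Prod.orderOf_mk, orderOf_one, Nat.lcm_one_right,
      orderOf_toZ, orderOf_toW_gC h, hgo]
  exact commute_two_mul (odd_mem_commutator h2 (oddQ_nondeg h2 n (F := F)) (by simp; omega) (by rw [ho]; exact hodd))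
    (map_mem_commutator E.toMonoidHom ht) (htc.map E) hs hs2 ho ((E.orderOf_eq t).trans hto)

theorem psp_of_pomega_two (h2 : (2 : F) ≠ 0) (hn : 1 ≤ n) (hs : s.Prime) (hs2 : s ≠ 2) (hsp : s ≠ p)
    (g₀ : oGroup (oddQ (F := F) n)) (hg₀ : g₀ ∈ commutator (oGroup (oddQ (F := F) n))) (ho : orderOf g₀ = 2 * s) :
    ∃ y : Cfsg.PSp n F, orderOf y = 2 * s := by
  classical
  suffices key : ∃ y : Cfsg.PSp n F, 2 * s ∣ orderOf y by
    obtain ⟨y, hy⟩ := key
    exact CfsgLib.Spectrum.exists_orderOf_eq_of_dvd (orderOf_pos y) hy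
  have hodd := hs.odd_of_ne_two hs2
  have h1 : (1 : F) ≠ -1 := fun h => h2 (by linear_combination h)
  have hp2 : p ≠ 2 := fun e => h2 (by subst e; exact_mod_cast CharP.cast_eq_zero F 2)
  let E := MulEquiv.subgroupCongr (oGroup_eq_bIso h2 (oddQ (F := F) n))
  set B : BilinForm F (Unit ⊕ (Fin n ⊕ Fin n) → F) := polarBilin (oddQ (F := F) n) with hBd
  set g : bIso B := E g₀ ^ 2 with hgd
  have hgo : orderOf g = s := by
    rw [hgd, orderOf_pow_of_dvd two_ne_zero (by rw [E.orderOf_eq, ho]; exact dvd_mul_right 2 s), E.orderOf_eq, ho,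
      Nat.mul_div_cancel_left _ two_pos]
  set t : bIso B := E g₀ ^ s with htd
  have hto : orderOf t = 2 := by
    rw [htd, orderOf_pow_of_dvd hs.ne_zero (by rw [E.orderOf_eq, ho]; exact dvd_mul_left s 2), E.orderOf_eq, ho,
      Nat.mul_div_cancel _ hs.pos]
  have htmem : t ∈ commutator (bIso B) := pow_mem ((mem_commutator_equiv E g₀).2 hg₀) s
  have h : Good g s := good_of_order hodd hgo
    (fun q hq hqs => by rwa [(Nat.prime_dvd_prime_iff_eq hq hs).1 hqs]) hp.out
  have hS : LinearMap.BilinForm.IsSymm B := ⟨fun u v => polar_comm _ u v⟩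
  have hB : B.Nondegenerate := oddQ_nondeg h2 n
  have hε : ∀ u v, B v u = (1 : F) * B u v := fun u v => by rw [one_mul]; exact polar_comm _ v u
  have hA := BZ_alt_of_symm s h2 hS (g := g)
  have hnd := BZ_nondeg h hε hB
  have hWn := BW_nondeg h hε hB
  obtain ⟨m, hm⟩ := even_finrank_of_alt hA hnd
  have hadd := finrank_add h
  have hdim : finrank F (Unit ⊕ (Fin n ⊕ Fin n) → F) = 2 * n + 1 := by simp; omega
  have hpos := Wsp_finrank_pos h (fun e => hs.ne_one (by rw [← hgo, e, orderOf_one]))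
  obtain ⟨e, he⟩ := exists_std_alt hA hnd hm
  set X := toSp e he (toZ g s (gC g)) with hXd
  have hXo : orderOf X = s := by
    rw [hXd, orderOf_injective _ (toSp_injective e he), orderOf_toZ, orderOf_toW_gC h, hgo]
  rcases Nat.lt_or_ge m n with hmn | hmn
  · obtain ⟨y, hy⟩ := CfsgLib.SpecAbsorb.exists_pair (n := n) h1 (show 1 ≤ m by omega)
      (show 1 ≤ n - m by omega) (by omega) X 1 (hXo ▸ hodd) (by rw [orderOf_one]; exact odd_one)
    rw [hXo, orderOf_one, Nat.lcm_one_right] at hy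
    exact ⟨y, hy⟩
  obtain rfl : m = n := by omega
  let tC : Cg g := ⟨t, Subgroup.mem_centralizer_singleton_iff.2 ((Commute.refl _).pow_pow s 2).eq⟩
  set T := toSp e he (toZ g s tC) with hTd
  have htt : tC * tC = 1 := Subtype.ext (by
    show t * t = 1
    rw [← pow_two, ← hto, pow_orderOf_eq_one])
  have hTT : T * T = 1 := by rw [hTd, ← map_mul, ← map_mul, htt, map_one, map_one]
  have hcXT : Commute X T := by
    refine Commute.map (Commute.map ?_ (toZ g s)) (toSp e he)
    exact Subtype.ext ((Commute.refl _).pow_pow 2 s).eq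
  by_cases hTc : T ∈ Subgroup.center (Matrix.symplecticGroup (Fin m) F)
  swap
  · have := CfsgLib.SpecAbsorb.two_mul_dvd (hXo ▸ hodd) hTT hTc hcXT
    rw [hXo] at this
    exact ⟨_, this⟩
  have hconj : ∀ w, e ((toW g s tC).1 w) = T.1 *ᵥ e w := fun w => by
    rw [← Matrix.toLinAlgEquiv'_apply, hTd, toSp_val, LinearEquiv.conj_apply_apply, e.symm_apply_apply]; rfl
  obtain ⟨c, hc, hcv⟩ := sq_one_of_dim_one (BU_nondeg h hB) (show finrank F (Usp g s) = 1 by omega) (toU g s tC)
  have htdet := det_of_mem_commutator htmem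
  have hdett : LinearEquiv.det t.1 =
      LinearEquiv.det (toW g s tC).1 * LinearEquiv.det (toU g s tC).1 := by
    rw [← show (glueIso h hε (prodHom _ _ (toW g s tC, toU g s tC))) = t from glueIso_apply h hε tC]
    refine (LinearEquiv.det_conj _ _).trans (Units.ext ?_)
    rw [Units.val_mul, LinearEquiv.coe_det, LinearEquiv.coe_det, LinearEquiv.coe_det, ← LinearMap.det_prodMap]
    rfl
  have hdU : (LinearEquiv.det (toU g s tC).1 : F) = c := by
    rw [LinearEquiv.coe_det, show (toU g s tC).1.toLinearMap = c • LinearMap.id from LinearMap.ext hcv,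
      LinearMap.det_smul, LinearMap.det_id, mul_one, show finrank F (Usp g s) = 1 by omega, pow_one]
  have hsquare : IsSquare (LinearMap.det (skewW g s)) := by
    rcases CfsgLib.Symp.mem_center_iff.1 hTc with hTv | hTv
    · exfalso
      have hW1 : toW g s tC = 1 := Subtype.ext (LinearEquiv.ext fun w => e.injective (by
        rw [hconj, hTv, Matrix.one_mulVec]; rfl))
      rw [htdet, hW1] at hdett
      have hc1 : c = 1 := by
        rw [← hdU]
        have h5 := congrArg Units.val hdett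
        rw [Units.val_mul, Subgroup.coe_one, map_one, Units.val_one, one_mul] at h5
        exact h5.symm
      have hU1 : toU g s tC = 1 := Subtype.ext (LinearEquiv.ext fun u => by rw [hcv, hc1, one_smul]; rfl)
      have ht1 : t = 1 := congrArg Subtype.val
        (ext_split h (y := tC) (y' := 1) (by rw [hW1, map_one]) (by rw [hU1, map_one]))
      rw [ht1, orderOf_one] at hto
      omega
    · have hWv : ∀ w, (toW g s tC).1 w = -w := fun w => e.injective (by
        rw [hconj, hTv, Matrix.neg_mulVec, Matrix.one_mulVec, map_neg])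
      have hdW : (LinearEquiv.det (toW g s tC).1 : F) = 1 := by
        rw [LinearEquiv.coe_det, show (toW g s tC).1.toLinearMap = (-1 : F) • LinearMap.id from
          LinearMap.ext fun w => (hWv w).trans (neg_one_smul F w).symm, LinearMap.det_smul, LinearMap.det_id,
          mul_one, hm, (even_two_mul m).neg_one_pow]
      have hc1 : c = 1 := by
        have h5 := congrArg Units.val hdett
        rw [htdet, Units.val_mul, Units.val_one, hdW, one_mul, hdU] at h5
        exact h5.symm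
      have hU1 : toU g s tC = 1 := Subtype.ext (LinearEquiv.ext fun u => by rw [hcv, hc1, one_smul]; rfl)
      have hmem : prodHom (BW g s) (BU g s) (toW g s tC, 1) ∈
          commutator (bIso (bProd (BW g s) (BU g s))) := by
        rw [← mem_commutator_equiv (glueIso h hε), ← hU1, glueIso_apply]
        exact htmem
      have hWS : LinearMap.BilinForm.IsSymm (BW g s) := ⟨fun u v => polar_comm _ _ _⟩
      have hUS : LinearMap.BilinForm.IsSymm (BU g s) := ⟨fun u v => polar_comm _ _ _⟩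
      have hsq := (negPart_mem_iff h2 hWS hWn hUS (BU_nondeg h hB) (show finrank F (Usp g s) = 1 by omega)
        (hm ▸ even_two_mul m) (by omega) _ hWv).1 hmem
      have hsz := sqDet_of_alt hA hnd
      rwa [BZ_eq, sqDet_compLeft hWn hsq] at hsz
  set G : Module.End F (Fin m ⊕ Fin m → F) := Matrix.toLinAlgEquiv' X.1 with hGd
  have hGeq : G - G ^ (orderOf X - 1) = e.conj (skewW g s) := by
    have hinv : X ^ (orderOf X - 1) = X⁻¹ := by
      refine eq_inv_of_mul_eq_one_left ?_
      rw [← pow_succ, Nat.sub_add_cancel (orderOf_pos X), pow_orderOf_eq_one]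
    have hp' : G ^ (orderOf X - 1) = Matrix.toLinAlgEquiv' (X⁻¹).1 := by
      rw [← hinv, hGd, SubmonoidClass.coe_pow, map_pow]
    rw [hp', hGd, hXd, ← map_inv, ← map_inv, toSp_val, toSp_val]
    exact (map_sub e.conj _ _).symm
  have hdeteq : LinearMap.det (G - G ^ (orderOf X - 1)) = LinearMap.det (skewW g s) := by
    rw [hGeq, LinearEquiv.conj_apply, LinearMap.comp_assoc, LinearMap.det_conj]
  obtain ⟨y, hy⟩ := CfsgLib.SpecAbsorb.real_of_square (p := p) h1 hp2 hn X (hXo ▸ hodd)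
    (by
      rw [hdeteq]
      intro h0
      obtain ⟨w, hw, hw0⟩ := Submodule.exists_mem_ne_zero_of_ne_bot (LinearMap.bot_lt_ker_of_det_eq_zero h0).ne'
      exact hw0 (Subtype.ext (skew_injOn h w.2 (congrArg Subtype.val (LinearMap.mem_ker.1 hw)))))
    (by rw [hdeteq]; exact hsquare)
  rw [hXo, ((Nat.coprime_primes hs Nat.prime_two).2 hs2).lcm_eq_mul, mul_comm] at hy
  exact ⟨y, hy⟩

end CfsgLib.PrimeGraphBC
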