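import Cfsg.Agent.PrimeGraphBC.Tools

/-!
An element whose order is a product of two odd primes passes between `POmega_{2n+1}` and `PSp_{2n}`.
-/

set_option autoImplicit false
set_option linter.style.haveILetI false

namespace CfsgLib.PrimeGraphBC

open Module Matrix CfsgLib.Quad QuadraticMap
open LinearMap (BilinForm)

variable {F : Type*} [Field F] [Fintype F] {p : ℕ} [CharP F p]

theorem orderOf_eq_mul_primes {G : Type*} [Monoid G] {r s : ℕ} (hr : r.Prime) (hs : s.Prime) (hrs : r ≠ s)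
    {x : G} (h : x ^ (r * s) = 1) (h1 : x ^ r ≠ 1) (h2 : x ^ s ≠ 1) : orderOf x = r * s := by
  refine Nat.dvd_antisymm (orderOf_dvd_of_pow_eq_one h) ?_
  have key : ∀ a b : ℕ, a.Prime → x ^ (a * b) = 1 → x ^ b ≠ 1 → a ∣ orderOf x := fun a b ha hab hb => by
    by_contra hd
    exact hb (orderOf_dvd_iff_pow_eq_one.1
      (((ha.coprime_iff_not_dvd.2 hd).symm).dvd_of_dvd_mul_left (orderOf_dvd_of_pow_eq_one hab)))
  exact ((Nat.coprime_primes hr hs).2 hrs).mul_dvd_of_dvd_of_dvd (key r s hr h h2)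
    (key s r hs (by rwa [mul_comm]) h1)

variable {V : Type*} [AddCommGroup V] [Module F V] {B : BilinForm F V}

omit [Fintype F] in
theorem good_of_order {g : bIso B} {a : ℕ} (ha : Odd a) (hg : orderOf g = a) (hne : ∀ q, q.Prime → q ∣ a → q ≠ p)
    (hp : p.Prime) : Good g a := by
  refine ⟨ha, hg ▸ pow_orderOf_eq_one g, fun h => ?_⟩
  exact hne p hp ((CharP.cast_eq_zero_iff F p a).1 h) rfl

omit [Fintype F] in
/-- What an isometry of order `r s` leaves on the moved space of a semisimple part. -/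
theorem split_odd (hp : p.Prime) {r s : ℕ} (hr : r.Prime) (hs : s.Prime) (hrs : r ≠ s) (hodd : Odd (r * s))
    (hrp : r ≠ p) (x : bIso B) (hx : orderOf x = r * s) :
    ∃ (g : bIso B) (a : ℕ) (_ : Good g a), g ≠ 1 ∧ ((∃ z : bIso (BZ g a), orderOf z = r * s) ∨
      (s = p ∧ (∃ z : bIso (BZ g a), orderOf z = r) ∧ ∃ y : bIso (BU g a), orderOf y = p)) := by
  have hne : x ≠ 1 := fun h => by
    have := Nat.mul_le_mul hr.two_le hs.two_le
    rw [h, orderOf_one] at hx; omega
  by_cases hsp : s = p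
  · subst hsp
    have hord : orderOf (x ^ s) = r := by
      rw [orderOf_pow_of_dvd hs.ne_zero (hx ▸ dvd_mul_left s r), hx, Nat.mul_div_cancel _ hs.pos]
    set g := x ^ s with hg
    have h : Good g r := good_of_order (Nat.Odd.of_mul_left hodd) hord
      (fun q hq hqr => by rwa [(Nat.prime_dvd_prime_iff_eq hq hr).1 hqr]) hp
    refine ⟨g, r, h, fun h1 => hr.ne_one (by rw [← hord, h1, orderOf_one]), ?_⟩
    let y : Cg g := ⟨x, Subgroup.mem_centralizer_singleton_iff.2 (Commute.self_pow x s).eq⟩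
    have hys : y ^ s = gC g := Subtype.ext rfl
    have hyrs : y ^ (r * s) = 1 := Subtype.ext (hx ▸ pow_orderOf_eq_one x)
    by_cases hW : toW g r y ^ r = 1
    · refine Or.inr ⟨rfl, ⟨toZ g r (gC g), by rw [orderOf_toZ, orderOf_toW_gC h, hord]⟩, ⟨(toU g r y) ^ r, ?_⟩⟩
      haveI := Fact.mk hs
      refine orderOf_eq_prime ?_ fun hU => ?_
      · rw [← pow_mul, ← map_pow, hyrs, map_one]
      · have h1 : y ^ r = 1 := ext_split h (by rw [map_pow, hW, map_one]) (by rw [map_pow, hU, map_one])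
        have := Nat.le_of_dvd hr.pos (hx ▸ orderOf_dvd_of_pow_eq_one (congrArg Subtype.val h1))
        have := Nat.mul_le_mul_left r hs.two_le
        have := hr.pos
        omega
    · refine Or.inl ⟨toZ g r y, ?_⟩
      rw [orderOf_toZ]
      refine orderOf_eq_mul_primes hr hs hrs (by rw [← map_pow, hyrs, map_one]) hW fun h1 => ?_
      rw [← map_pow, hys] at h1
      exact hr.ne_one (by rw [← hord, ← orderOf_toW_gC h, h1, orderOf_one])
  · have h : Good x (r * s) := good_of_order hodd hx (fun q hq hd => by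
      rcases hq.dvd_mul.1 hd with e | e
      · rwa [(Nat.prime_dvd_prime_iff_eq hq hr).1 e]
      · rwa [(Nat.prime_dvd_prime_iff_eq hq hs).1 e]) hp
    exact ⟨x, r * s, h, hne, Or.inl ⟨toZ x (r * s) (gC x), by rw [orderOf_toZ, orderOf_toW_gC h, hx]⟩⟩

omit [Fintype F] in
theorem Wsp_finrank_pos [FiniteDimensional F V] {g : bIso B} {a : ℕ} (h : Good g a) (hg : g ≠ 1) :
    0 < finrank F (Wsp g a) := by
  by_contra hc
  haveI : Subsingleton (Wsp g a) := (Module.finrank_zero_iff (R := F)).1 (by omega)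
  refine hg ?_
  have h1 : (gC g : Cg g) = 1 := ext_split h
    (Subtype.ext (LinearEquiv.ext fun _ => Subsingleton.elim _ _)) (by rw [toU_gC h, map_one])
  exact congrArg Subtype.val h1

omit [Fintype F] in
theorem BZ_alt_of_symm {g : bIso B} (a : ℕ) (h2 : (2 : F) ≠ 0) (hS : B.IsSymm) : (BZ g a).IsAlt := fun w => by
  have h := skew_adj (g := g) (w : V) (w : V)
  rw [hS.eq (w : V) (skew g (w : V))] at h
  have h' : (2 : F) * B (skew g (w : V)) (w : V) = 0 := by linear_combination h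
  exact (mul_eq_zero.1 h').resolve_left h2

omit [Fintype F] in
theorem BZ_symm_of_alt {g : bIso B} (a : ℕ) (hA : B.IsAlt) : (BZ g a).IsSymm := ⟨fun u v => by
  show B (skew g (u : V)) (v : V) = B (skew g (v : V)) (u : V)
  rw [skew_adj, LinearMap.IsAlt.neg hA]⟩

variable [hp : Fact p.Prime] {n : ℕ} {r s : ℕ}

theorem psp_of_pomega_odd (h2 : (2 : F) ≠ 0) (hr : r.Prime) (hs : s.Prime) (hrs : r ≠ s) (hodd : Odd (r * s))
    (hrp : r ≠ p) (x : oGroup (oddQ (F := F) n)) (hx : orderOf x = r * s) :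
    ∃ y : Cfsg.PSp n F, orderOf y = r * s := by
  have h1 : (1 : F) ≠ -1 := fun h => h2 (by linear_combination h)
  let E := MulEquiv.subgroupCongr (oGroup_eq_bIso h2 (oddQ (F := F) n))
  obtain ⟨g, a, h, hg1, hcase⟩ := split_odd hp.out hr hs hrs hodd hrp (E x) ((E.orderOf_eq x).trans hx)
  have hS : LinearMap.BilinForm.IsSymm (polarBilin (oddQ (F := F) n)) := ⟨fun u v => polar_comm _ u v⟩
  have hB := oddQ_nondeg h2 n (F := F)
  have hε : ∀ u v, polarBilin (oddQ (F := F) n) v u = (1 : F) * polarBilin (oddQ (F := F) n) u v :=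
    fun u v => by rw [one_mul]; exact polar_comm _ v u
  have hA := BZ_alt_of_symm a h2 hS (g := g)
  have hnd := BZ_nondeg h hε hB
  obtain ⟨m, hm⟩ := even_finrank_of_alt hA hnd
  have hpos := Wsp_finrank_pos h hg1
  have hadd := finrank_add h
  have hdim : finrank F (Unit ⊕ (Fin n ⊕ Fin n) → F) = 2 * n + 1 := by simp; omega
  obtain ⟨e, he⟩ := exists_std_alt hA hnd hm
  rcases hcase with ⟨z, hz⟩ | ⟨rfl, ⟨z, hz⟩, y, hy⟩
  · obtain ⟨y, hy⟩ := psp_of_le h1 (show 1 ≤ m by omega) (show m ≤ n by omega) (toSp e he z)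
      (by rw [orderOf_injective _ (toSp_injective e he), hz]; exact hodd)
    exact ⟨y, by rw [hy, orderOf_injective _ (toSp_injective e he), hz]⟩
  · have hk : 1 ≤ n - m := by
      by_contra hk
      obtain ⟨c, hc, hcv⟩ := sq_one_of_dim_one (BU_nondeg h hB) (by omega) y
      have hy2 : y ^ 2 = 1 := Subtype.ext (LinearEquiv.ext fun v => by
        rw [pow_two, Subgroup.coe_mul, LinearEquiv.mul_apply, hcv, hcv, smul_smul, hc, one_smul]; rfl)
      have := (Nat.prime_dvd_prime_iff_eq hs Nat.prime_two).1 (hy ▸ orderOf_dvd_of_pow_eq_one hy2)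
      exact Nat.not_even_iff_odd.2 (Nat.Odd.of_mul_right hodd) (this ▸ even_two)
    obtain ⟨u, hu⟩ := exists_sp_order_p (F := F) (p := s) hk
    obtain ⟨w, hw⟩ := CfsgLib.SpecAbsorb.exists_pair (n := n) h1 (show 1 ≤ m by omega) hk (by omega)
      (toSp e he z) u (by rw [orderOf_injective _ (toSp_injective e he), hz]; exact (Nat.Odd.of_mul_left hodd))
      (hu ▸ (Nat.Odd.of_mul_right hodd))
    refine CfsgLib.Spectrum.exists_orderOf_eq_of_dvd (orderOf_pos w) (Nat.dvd_trans ?_ hw)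
    rw [orderOf_injective _ (toSp_injective e he), hz, hu, ((Nat.coprime_primes hr hs).2 hrs).lcm_eq_mul]
    exact dvd_mul_left _ 2

theorem pomega_of_psp_odd (h2 : (2 : F) ≠ 0) (hn : 1 ≤ n) (hr : r.Prime) (hs : s.Prime) (hrs : r ≠ s)
    (hodd : Odd (r * s)) (hrp : r ≠ p) (y : Cfsg.PSp n F) (hy : orderOf y = r * s) :
    ∃ g ∈ commutator (oGroup (oddQ (F := F) n)), orderOf g = r * s := by
  suffices key : ∃ g : oGroup (oddQ (F := F) n), orderOf g = r * s by
    obtain ⟨g, hg⟩ := key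
    exact ⟨g, odd_mem_commutator h2 (oddQ_nondeg h2 n) (by simp; omega) (hg ▸ hodd), hg⟩
  obtain ⟨A, hA, hAa⟩ := lift_odd hodd (hy ▸ pow_orderOf_eq_one y)
  have hAo : orderOf A = r * s := orderOf_of_mk hAa (hA ▸ hy)
  obtain ⟨g, a, h, hg1, hcase⟩ := split_odd hp.out hr hs hrs hodd hrp (fromSp n A)
    ((orderOf_injective _ (fromSp_injective n) A).trans hAo)
  have hε : ∀ u v, stdB (F := F) n v u = (-1 : F) * stdB (F := F) n u v :=
    fun u v => by
      rw [neg_one_mul]; exact (LinearMap.BilinForm.IsAlt.neg_eq (stdB_alt n) u v).symm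
  have hnd := BZ_nondeg h hε (stdB_nondeg n)
  have hS := BZ_symm_of_alt a (stdB_alt n) (g := g)
  obtain ⟨m, hm⟩ := even_finrank_of_alt (B := BW g a) (fun w => stdB_alt n _) (BW_nondeg h hε (stdB_nondeg n))
  have hadd := finrank_add h
  have hdim : finrank F (Fin n ⊕ Fin n → F) = 2 * n := by simp; omega
  obtain ⟨Ψ, hΨ⟩ := exists_odd_embed h2 hS hnd (k := n - m) (n := n) hm (by omega)
  rcases hcase with ⟨z, hz⟩ | ⟨rfl, ⟨z, hz⟩, y', hy'⟩
  · exact ⟨Ψ (z, 1), by rw [orderOf_injective _ hΨ, Prod.orderOf_mk, orderOf_one, Nat.lcm_one_right, hz]⟩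
  · have hk : 1 ≤ n - m := by
      by_contra hk
      haveI : Subsingleton (Usp g a) := (Module.finrank_zero_iff (R := F)).1 (show finrank F (Usp g a) = 0 by omega)
      have : y' = 1 := Subtype.ext (LinearEquiv.ext fun _ => Subsingleton.elim _ _)
      rw [this, orderOf_one] at hy'
      exact hs.ne_one hy'.symm
    obtain ⟨u, hu⟩ := exists_odd_order_p (F := F) (p := s) h2 hk
    let E := MulEquiv.subgroupCongr (oGroup_eq_bIso h2 (oddQ (F := F) (n - m)))
    refine ⟨Ψ (z, E u), ?_⟩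
    rw [orderOf_injective _ hΨ, Prod.orderOf_mk, hz, E.orderOf_eq, hu,
      ((Nat.coprime_primes hr hs).2 hrs).lcm_eq_mul]

end CfsgLib.PrimeGraphBC
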