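import Cfsg.Agent.PrimeGraphBC.Iso

/-!
A semisimple isometry `g` of odd order splits the space into its fixed space and a complement `W`; on `W` the
form `B((g - g⁻¹) u, v)` has the opposite symmetry and is preserved by the centraliser of `g`.
-/

set_option autoImplicit false
set_option linter.style.haveILetI false

namespace CfsgLib.PrimeGraphBC

open Module
open LinearMap (BilinForm)

variable {F V : Type*} [Field F] [AddCommGroup V] [Module F V] {B : BilinForm F V} (g : bIso B) (a : ℕ)

/-- The average of the powers of `g`. -/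
def avg : Module.End F V := (a : F)⁻¹ • ∑ i ∈ Finset.range a, (g.1.toLinearMap : Module.End F V) ^ i

/-- The moved space. -/
abbrev Wsp : Submodule F V := LinearMap.ker (avg g a)

/-- The fixed space. -/
abbrev Usp : Submodule F V := LinearMap.range (avg g a)

/-- `g - g⁻¹`. -/
def skew : Module.End F V := g.1.toLinearMap - (g⁻¹).1.toLinearMap

/-- The centraliser of `g`. -/
abbrev Cg : Subgroup (bIso B) := Subgroup.centralizer {g}

/-- The form on the moved space. -/
abbrev BW : BilinForm F (Wsp g a) := B.restrict (Wsp g a)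

/-- The form on the fixed space. -/
abbrev BU : BilinForm F (Usp g a) := B.restrict (Usp g a)

/-- The transferred form. -/
abbrev BZ : BilinForm F (Wsp g a) := (B.compLeft (skew g)).restrict (Wsp g a)

variable {g}

theorem comm_apply (y : Cg g) (v : V) : y.1.1 (g.1 v) = g.1 (y.1.1 v) :=
  congrArg (fun t : bIso B => t.1 v) (Subgroup.mem_centralizer_singleton_iff.1 y.2)

theorem comm_inv_apply (y : Cg g) (v : V) : y.1.1 ((g⁻¹).1 v) = (g⁻¹).1 (y.1.1 v) := by
  have h : Commute (y : bIso B) g⁻¹ :=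
    (show Commute (y : bIso B) g from Subgroup.mem_centralizer_singleton_iff.1 y.2).inv_right
  exact congrArg (fun t : bIso B => t.1 v) h.eq

theorem avg_comm (y : Cg g) (v : V) : avg g a (y.1.1 v) = y.1.1 (avg g a v) := by
  simp only [avg, LinearMap.smul_apply, LinearMap.sum_apply, map_smul, map_sum]
  congr 1
  refine Finset.sum_congr rfl fun i hi => ?_
  clear hi
  induction i generalizing v with
  | zero => rfl
  | succ i ih =>
    rw [pow_succ, Module.End.mul_apply, Module.End.mul_apply, LinearEquiv.coe_coe, ← comm_apply, ih]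

theorem skew_comm (y : Cg g) (v : V) : skew g (y.1.1 v) = y.1.1 (skew g v) := by
  simp only [skew, LinearMap.sub_apply, map_sub, LinearEquiv.coe_coe, comm_apply, comm_inv_apply]

theorem Wsp_maps (y : Cg g) : ∀ v ∈ Wsp g a, y.1.1 v ∈ Wsp g a := fun v hv => by
  rw [LinearMap.mem_ker] at hv ⊢
  rw [avg_comm, hv, map_zero]

theorem Usp_maps (y : Cg g) : ∀ v ∈ Usp g a, y.1.1 v ∈ Usp g a := by
  rintro _ ⟨v, rfl⟩
  exact ⟨y.1.1 v, avg_comm a y v⟩

/-- Restriction to an invariant subspace. -/
def resHom (P : Submodule F V) (hP : ∀ y : Cg g, ∀ v ∈ P, y.1.1 v ∈ P) : Cg g →* (P ≃ₗ[F] P) where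
  toFun y := LinearEquiv.ofLinearMap (y.1.1.toLinearMap.restrict (hP y)) ((y⁻¹).1.1.toLinearMap.restrict (hP y⁻¹))
    (LinearMap.ext fun v => Subtype.ext (y.1.1.apply_symm_apply (v : V)))
    (LinearMap.ext fun v => Subtype.ext (y.1.1.symm_apply_apply (v : V)))
  map_one' := LinearEquiv.ext fun _ => rfl
  map_mul' _ _ := LinearEquiv.ext fun _ => rfl

variable (g)

/-- On the moved space, the old form. -/
def toW : Cg g →* bIso (BW g a) :=
  (resHom (Wsp g a) (Wsp_maps a)).codRestrict _ fun y u v => y.1.2 (u : V) (v : V)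

/-- On the moved space, the new form. -/
def toZ : Cg g →* bIso (BZ g a) :=
  (resHom (Wsp g a) (Wsp_maps a)).codRestrict _ fun y u v => by
    show B (skew g (y.1.1 u)) (y.1.1 v) = B (skew g u) v
    rw [skew_comm]; exact y.1.2 _ _

/-- On the fixed space. -/
def toU : Cg g →* bIso (BU g a) :=
  (resHom (Usp g a) (Usp_maps a)).codRestrict _ fun y u v => y.1.2 (u : V) (v : V)

theorem toW_apply (y : Cg g) (w : Wsp g a) : (((toW g a y).1 w : Wsp g a) : V) = y.1.1 w := rfl
theorem toU_apply (y : Cg g) (w : Usp g a) : (((toU g a y).1 w : Usp g a) : V) = y.1.1 w := rfl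
theorem toZ_val (y : Cg g) : (toZ g a y).1 = (toW g a y).1 := rfl

/-- `g` itself. -/
def gC : Cg g := ⟨g, Subgroup.mem_centralizer_singleton_iff.2 rfl⟩

/-- `g - g⁻¹` on the moved space. -/
def skewW : Module.End F (Wsp g a) :=
  (toW g a (gC g)).1.toLinearMap - (toW g a (gC g)⁻¹).1.toLinearMap

theorem BZ_eq : BZ g a = (BW g a).compLeft (skewW g a) := rfl

/-- The hypotheses on the exponent. -/
structure Good : Prop where
  /-- odd -/
  odd : Odd a
  /-- exponent -/
  pow : g ^ a = 1
  /-- prime to the characteristic -/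
  ne : (a : F) ≠ 0

variable {g a} (h : Good g a)

include h

theorem apply_avg (v : V) : g.1 (avg g a v) = avg g a v := by
  simp only [avg, LinearMap.smul_apply, LinearMap.sum_apply, map_smul, map_sum]
  congr 1
  have hc : ∀ i, g.1 (((g.1.toLinearMap : Module.End F V) ^ i) v) = ((g.1.toLinearMap : Module.End F V) ^ (i + 1)) v :=
    fun i => by rw [pow_succ', Module.End.mul_apply]; rfl
  simp only [hc]
  obtain ⟨k, rfl⟩ : ∃ k, a = k + 1 := ⟨a - 1, by have := h.odd.pos; omega⟩
  rw [Finset.sum_range_succ, Finset.sum_range_succ' (fun i => ((g.1.toLinearMap : Module.End F V) ^ i) v)]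
  congr 1
  have hpow : ∀ j : ℕ, ((g.1.toLinearMap : Module.End F V) ^ j) v = (g ^ j).1 v := fun j => by
    induction j with
    | zero => rfl
    | succ j ih => rw [pow_succ', Module.End.mul_apply, ih, pow_succ']; rfl
  rw [hpow, hpow, h.pow, pow_zero]

theorem avg_of_fix {v : V} (hv : g.1 v = v) : avg g a v = v := by
  have hp : ∀ i : ℕ, ((g.1.toLinearMap : Module.End F V) ^ i) v = v := fun i => by
    induction i with
    | zero => rfl
    | succ i ih => rw [pow_succ', Module.End.mul_apply, ih]; exact hv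
  simp only [avg, LinearMap.smul_apply, LinearMap.sum_apply, hp, Finset.sum_const, Finset.card_range]
  rw [← Nat.cast_smul_eq_nsmul F, smul_smul, inv_mul_cancel₀ h.ne, one_smul]

theorem mem_Usp_iff {v : V} : v ∈ Usp g a ↔ g.1 v = v :=
  ⟨fun ⟨w, hw⟩ => hw ▸ apply_avg h w, fun hv => ⟨v, avg_of_fix h hv⟩⟩

theorem isCompl : IsCompl (Wsp g a) (Usp g a) := by
  refine ⟨Submodule.disjoint_def.2 fun v hv hu => ?_, codisjoint_iff.2 (eq_top_iff.2 fun v _ => ?_)⟩
  · rw [← avg_of_fix h ((mem_Usp_iff h).1 hu)]; exact hv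
  · refine Submodule.mem_sup.2 ⟨v - avg g a v, ?_, avg g a v, ⟨v, rfl⟩, by abel⟩
    rw [LinearMap.mem_ker, map_sub, avg_of_fix h (apply_avg h v), sub_self]

theorem orth {u w : V} (hu : u ∈ Usp g a) (hw : w ∈ Wsp g a) : B u w = 0 := by
  have hk : ∀ i : ℕ, B u (((g.1.toLinearMap : Module.End F V) ^ i) w) = B u w := fun i => by
    induction i with
    | zero => rfl
    | succ i ih =>
      rw [pow_succ', Module.End.mul_apply, ← ih]
      conv_lhs => rw [← (mem_Usp_iff h).1 hu]
      exact g.2 _ _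
  have h0 : B u (avg g a w) = 0 := by rw [show avg g a w = 0 from hw, map_zero]
  simp only [avg, LinearMap.smul_apply, LinearMap.sum_apply, map_smul, map_sum, hk, Finset.sum_const,
    Finset.card_range, nsmul_eq_mul, smul_eq_mul] at h0
  rwa [← mul_assoc, inv_mul_cancel₀ h.ne, one_mul] at h0

theorem orth' {ε : F} (hε : ∀ u v, B v u = ε * B u v) {u w : V} (hu : u ∈ Usp g a) (hw : w ∈ Wsp g a) :
    B w u = 0 := by rw [hε u w, orth h hu hw, mul_zero]

theorem skew_injOn {w : V} (hw : w ∈ Wsp g a) (h0 : skew g w = 0) : w = 0 := by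
  have h1 : g.1 (g.1 w) = w := by
    have h2 : g.1 w = (g⁻¹).1 w := sub_eq_zero.1 h0
    conv_lhs => rw [h2]
    exact g.1.apply_symm_apply w
  obtain ⟨k, hk⟩ := h.odd
  have hp : ∀ j : ℕ, (g ^ (2 * j)).1 w = w := fun j => by
    induction j with
    | zero => rfl
    | succ j ih => rw [show 2 * (j + 1) = 1 + (1 + 2 * j) by omega, pow_add, pow_add, pow_one]; exact (congrArg (fun x => g.1 (g.1 x)) ih).trans h1
  have h3 : g.1 w = w := by
    conv_rhs => rw [show w = (1 : bIso B).1 w from rfl, ← h.pow, hk, pow_succ']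
    exact congrArg g.1 (hp k).symm
  exact (avg_of_fix h h3).symm.trans hw

omit h in
theorem skew_adj (u v : V) : B (skew g u) v = -B u (skew g v) := by
  have h1 : B (g.1 u) v = B u ((g⁻¹).1 v) := by
    rw [← g.2 u ((g⁻¹).1 v)]; exact congrArg _ (g.1.apply_symm_apply v).symm
  have h2 : B ((g⁻¹).1 u) v = B u (g.1 v) := by
    rw [← g.2 ((g⁻¹).1 u) v]; exact congrArg (fun x => B x (g.1 v)) (g.1.apply_symm_apply u)
  simp only [skew, LinearMap.sub_apply, map_sub, LinearEquiv.coe_coe, h1, h2]
  ring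

theorem exists_split (v : V) : ∃ w : Wsp g a, ∃ u : Usp g a, v = (w : V) + u := by
  obtain ⟨w, hw, u, hu, rfl⟩ := Submodule.mem_sup.1 (show v ∈ Wsp g a ⊔ Usp g a by
    rw [(isCompl h).sup_eq_top]; trivial)
  exact ⟨⟨w, hw⟩, ⟨u, hu⟩, rfl⟩

theorem ext_split {y y' : Cg g} (hW : toW g a y = toW g a y') (hU : toU g a y = toU g a y') : y = y' := by
  refine Subtype.ext (Subtype.ext (LinearEquiv.ext fun v => ?_))
  obtain ⟨w, u, rfl⟩ := exists_split h v
  rw [map_add, map_add, ← toW_apply, ← toW_apply, ← toU_apply, ← toU_apply, hW, hU]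

theorem toU_gC : toU g a (gC g) = 1 :=
  Subtype.ext (LinearEquiv.ext fun u => Subtype.ext ((mem_Usp_iff h).1 u.2))

theorem orderOf_toW_gC : orderOf (toW g a (gC g)) = orderOf g := by
  refine orderOf_eq_orderOf_iff.2 fun n => ⟨fun hn => ?_, fun hn => ?_⟩
  · have h1 : (gC g : Cg g) ^ n = 1 :=
      ext_split h (by rw [map_pow, map_one, hn]) (by rw [map_pow, toU_gC h, one_pow, map_one])
    exact congrArg Subtype.val h1
  · rw [← map_pow, show (gC g : Cg g) ^ n = 1 from Subtype.ext hn, map_one]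

omit h in
theorem orderOf_toZ (y : Cg g) : orderOf (toZ g a y) = orderOf (toW g a y) := by
  rw [← orderOf_injective (bIso (BZ g a)).subtype Subtype.val_injective (toZ g a y),
    ← orderOf_injective (bIso (BW g a)).subtype Subtype.val_injective (toW g a y)]
  rfl

theorem finrank_add [FiniteDimensional F V] :
    finrank F (Wsp g a) + finrank F (Usp g a) = finrank F V :=
  Submodule.finrank_add_eq_of_isCompl (isCompl h)

variable {ε : F} (hε : ∀ u v, B v u = ε * B u v) (hB : B.Nondegenerate) [FiniteDimensional F V]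

include hε hB

theorem BW_nondeg : (BW g a).Nondegenerate := by
  refine LinearMap.BilinForm.Nondegenerate.ofSeparatingLeft fun w hw => Subtype.ext (hB.1 _ fun v => ?_)
  obtain ⟨w', u, rfl⟩ := exists_split h v
  rw [map_add, orth' h hε u.2 w.2, add_zero]
  exact hw w'

omit hε in
theorem BU_nondeg : (BU g a).Nondegenerate := by
  refine LinearMap.BilinForm.Nondegenerate.ofSeparatingLeft fun u hu => Subtype.ext (hB.1 _ fun v => ?_)
  obtain ⟨w, u', rfl⟩ := exists_split h v
  rw [map_add, orth h u.2 w.2, zero_add]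
  exact hu u'

theorem BZ_nondeg : (BZ g a).Nondegenerate := by
  refine LinearMap.BilinForm.Nondegenerate.ofSeparatingLeft fun w hw => Subtype.ext (skew_injOn h w.2 ?_)
  exact congrArg Subtype.val ((BW_nondeg h hε hB).1 (skewW g a w) hw)

/-- Gluing the two parts. -/
noncomputable def glueIso : bIso (bProd (BW g a) (BU g a)) ≃* bIso B :=
  bIsoCongr (Submodule.prodEquivOfIsCompl _ _ (isCompl h)) 1 one_ne_zero fun x y => by
    rw [one_mul, bProd_apply]
    show B ((x.1 : V) + x.2) ((y.1 : V) + y.2) = B (x.1 : V) y.1 + B (x.2 : V) y.2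
    rw [map_add, map_add, LinearMap.add_apply, LinearMap.add_apply, orth h x.2.2 y.1.2,
      orth' h hε y.2.2 x.1.2, add_zero, zero_add]

omit hB in
theorem glueIso_apply (y : Cg g) : glueIso h hε (prodHom _ _ (toW g a y, toU g a y)) = y.1 := by
  refine Subtype.ext (LinearEquiv.ext fun v => ?_)
  obtain ⟨x, rfl⟩ := (Submodule.prodEquivOfIsCompl _ _ (isCompl h)).surjective v
  unfold glueIso
  rw [bIsoCongr_apply]
  show ((toW g a y).1 x.1 : V) + ((toU g a y).1 x.2 : V) = y.1.1 ((x.1 : V) + x.2)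
  rw [map_add]; rfl

end CfsgLib.PrimeGraphBC
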