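import Cfsg.Prelude.Def_Classical
import Cfsg.Agent.PrimeGraphBC.Transfer
import Cfsg.Agent.SpecAbsorb.SpSquare
import Cfsg.Agent.OrderBC.Basic
import Cfsg.Agent.Spectrum.Basic

/-!
Orders in `POmega_{2n+1}` and `PSp_{2n}`: models, lifts, determinants.
-/

set_option autoImplicit false
set_option linter.style.haveILetI false

namespace CfsgLib.PrimeGraphBC

open Module Matrix CfsgLib.Quad QuadraticMap
open LinearMap (BilinForm)

variable {F : Type*} [Field F] [Fintype F] {V : Type*} [AddCommGroup V] [Module F V]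

local notation "Sp" n => Matrix.symplecticGroup (Fin n) F

/-- The standard alternating form. -/
noncomputable def stdB (n : ℕ) : BilinForm F (Fin n ⊕ Fin n → F) := Matrix.toBilin' (Matrix.J (Fin n) F)

omit [Fintype F] in
theorem stdB_apply {n : ℕ} (u v : Fin n ⊕ Fin n → F) : stdB n u v = CfsgLib.Symp.form u v :=
  Matrix.toBilin'_apply' _ _ _

omit [Fintype F] in
theorem stdB_alt (n : ℕ) : (stdB (F := F) n).IsAlt := fun x => by
  rw [stdB_apply]; exact CfsgLib.Symp.form_self x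

omit [Fintype F] in
theorem stdB_nondeg (n : ℕ) : (stdB (F := F) n).Nondegenerate :=
  ⟨fun x hx => CfsgLib.Symp.eq_zero_of_form_eq_zero fun u => by
      rw [CfsgLib.Symp.form_swap, ← stdB_apply, hx u, neg_zero],
    fun x hx => CfsgLib.Symp.eq_zero_of_form_eq_zero fun u => by rw [← stdB_apply, hx u]⟩

/-- A symplectic matrix as an isometry. -/
noncomputable def fromSp (n : ℕ) : (Sp n) →* bIso (stdB (F := F) n) where
  toFun A := ⟨LinearEquiv.ofLinearMap (Matrix.toLinAlgEquiv' A.1) (Matrix.toLinAlgEquiv' (A⁻¹).1)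
      (by rw [← Module.End.mul_eq_comp, ← map_mul]; exact (congrArg (fun X : Sp n => Matrix.toLinAlgEquiv' X.1) (mul_inv_cancel A)).trans (map_one _))
      (by rw [← Module.End.mul_eq_comp, ← map_mul]; exact (congrArg (fun X : Sp n => Matrix.toLinAlgEquiv' X.1) (inv_mul_cancel A)).trans (map_one _)),
    fun u v => by
      show stdB n (Matrix.toLinAlgEquiv' A.1 u) (Matrix.toLinAlgEquiv' A.1 v) = _
      rw [stdB_apply, stdB_apply]
      exact CfsgLib.Symp.mem_iff_form.1 A.2 u v⟩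
  map_one' := Subtype.ext (LinearEquiv.toLinearMap_injective (map_one (Matrix.toLinAlgEquiv' :
    Matrix (Fin n ⊕ Fin n) (Fin n ⊕ Fin n) F ≃ₐ[F] _)))
  map_mul' A A' := Subtype.ext (LinearEquiv.toLinearMap_injective (map_mul (Matrix.toLinAlgEquiv' :
    Matrix (Fin n ⊕ Fin n) (Fin n ⊕ Fin n) F ≃ₐ[F] _) A.1 A'.1))

omit [Fintype F] in
theorem fromSp_apply {n : ℕ} (A : Sp n) (v : Fin n ⊕ Fin n → F) :
    (fromSp n A).1 v = A.1 *ᵥ v := Matrix.toLinAlgEquiv'_apply _ _

omit [Fintype F] in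
theorem fromSp_injective (n : ℕ) : Function.Injective (fromSp (F := F) n) := fun A A' h => by
  refine Subtype.ext ((Matrix.toLinAlgEquiv' : Matrix (Fin n ⊕ Fin n) (Fin n ⊕ Fin n) F ≃ₐ[F] _).injective ?_)
  exact congrArg (fun g : bIso (stdB (F := F) n) => g.1.toLinearMap) h

/-- An isometry of an alternating form as a symplectic matrix. -/
noncomputable def toSp {B : BilinForm F V} {m : ℕ} (e : V ≃ₗ[F] (Fin m ⊕ Fin m → F))
    (he : ∀ u v, CfsgLib.Symp.form (e u) (e v) = B u v) : bIso B →* (Sp m) where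
  toFun g := ⟨Matrix.toLinAlgEquiv'.symm (e.conj g.1.toLinearMap), CfsgLib.Symp.mem_iff_form.2 fun u v => by
    rw [← Matrix.toLinAlgEquiv'_apply, ← Matrix.toLinAlgEquiv'_apply, AlgEquiv.apply_symm_apply,
      LinearEquiv.conj_apply_apply, LinearEquiv.conj_apply_apply, he]
    rw [LinearEquiv.coe_coe, g.2, ← he, e.apply_symm_apply, e.apply_symm_apply]⟩
  map_one' := Subtype.ext ((congrArg Matrix.toLinAlgEquiv'.symm (e.conj_id)).trans (map_one _))
  map_mul' g g' := Subtype.ext ((congrArg Matrix.toLinAlgEquiv'.symm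
    (e.conj_comp g'.1.toLinearMap g.1.toLinearMap)).trans (map_mul _ _ _))

omit [Fintype F] in
theorem toSp_val {B : BilinForm F V} {m : ℕ} (e : V ≃ₗ[F] (Fin m ⊕ Fin m → F))
    (he : ∀ u v, CfsgLib.Symp.form (e u) (e v) = B u v) (g : bIso B) :
    Matrix.toLinAlgEquiv' (toSp e he g).1 = e.conj g.1.toLinearMap := AlgEquiv.apply_symm_apply _ _

omit [Fintype F] in
theorem toSp_injective {B : BilinForm F V} {m : ℕ} (e : V ≃ₗ[F] (Fin m ⊕ Fin m → F))
    (he : ∀ u v, CfsgLib.Symp.form (e u) (e v) = B u v) : Function.Injective (toSp e he) := fun g g' h => by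
  refine Subtype.ext (LinearEquiv.toLinearMap_injective (e.conj.injective ?_))
  rw [← toSp_val e he, ← toSp_val e he, h]

omit [Fintype F] in
theorem lift_odd {n : ℕ} {y : Cfsg.PSp n F} {a : ℕ} (ha : Odd a) (hy : y ^ a = 1) :
    ∃ A : Sp n, (QuotientGroup.mk A : Cfsg.PSp n F) = y ∧ A ^ a = 1 := by
  obtain ⟨A₀, hA₀⟩ := QuotientGroup.mk_surjective y
  obtain ⟨w, hw⟩ := ha
  refine ⟨A₀ ^ (2 * (w + 1)), ?_, ?_⟩
  · rw [QuotientGroup.mk_pow, hA₀, show 2 * (w + 1) = a + 1 by omega, pow_succ, hy, one_mul]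
  · have hz : A₀ ^ a ∈ Subgroup.center (Sp n) := (QuotientGroup.eq_one_iff _).1 (by
      rw [QuotientGroup.mk_pow, hA₀, hy])
    have hsq : (A₀ ^ a) ^ 2 = 1 := Subtype.ext (by
      rcases CfsgLib.Symp.mem_center_iff.1 hz with e | e <;> simp [SubmonoidClass.coe_pow, e])
    rw [← pow_mul, show 2 * (w + 1) * a = (a * 2) * (w + 1) by ring, pow_mul, pow_mul, hsq, one_pow]

omit [Fintype F] in
theorem orderOf_of_mk {n : ℕ} {A : Sp n} {a : ℕ} (hA : A ^ a = 1)
    (h : orderOf (QuotientGroup.mk A : Cfsg.PSp n F) = a) : orderOf A = a :=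
  Nat.dvd_antisymm (orderOf_dvd_of_pow_eq_one hA)
    (h ▸ orderOf_dvd_of_pow_eq_one (by rw [← QuotientGroup.mk_pow, pow_orderOf_eq_one]; rfl))

/-- An order realised in `Sp_{2m}` is realised in `PSp_{2n}`. -/
theorem psp_of_le (h2 : (1 : F) ≠ -1) {m n : ℕ} (hm : 1 ≤ m) (hmn : m ≤ n) (z : Sp m) (hz : Odd (orderOf z)) :
    ∃ y : Cfsg.PSp n F, orderOf y = orderOf z := by
  rcases Nat.lt_or_ge m n with h | h
  · obtain ⟨y, hy⟩ := CfsgLib.SpecAbsorb.exists_pair (n := n) h2 hm (show 1 ≤ n - m by omega) (by omega) z 1 hz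
      (by rw [orderOf_one]; exact odd_one)
    exact CfsgLib.Spectrum.exists_orderOf_eq_of_dvd (orderOf_pos y)
      (((Nat.dvd_lcm_left _ _).trans (dvd_mul_left _ 2)).trans hy)
  · obtain rfl : m = n := le_antisymm hmn h
    exact CfsgLib.Spectrum.exists_orderOf_eq_of_dvd (orderOf_pos _)
      (CfsgLib.SpecAbsorb.odd_dvd_of_dvd_two_mul hz (CfsgLib.SpecAbsorb.dvd_two_mul_orderOf_mk z))

theorem exists_sp_order_p {p : ℕ} [hp : Fact p.Prime] [CharP F p] {k : ℕ} (hk : 1 ≤ k) :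
    ∃ u : Sp k, orderOf u = p := by
  have hp1 := hp.out.one_lt
  obtain ⟨u, hu⟩ := CfsgLib.SpecAbsorb.exists_sp_unip (F := F) (p := p) hk (Nat.le_pow_clog hp1 (2 * k))
    (Nat.pow_pred_clog_lt_self hp1 (by omega))
  exact CfsgLib.Spectrum.exists_orderOf_eq_of_dvd (orderOf_pos u)
    (hu ▸ dvd_pow_self p (Nat.clog_pos hp1 (by omega)).ne')

theorem exists_odd_order_p {p : ℕ} [hp : Fact p.Prime] [CharP F p] (h2 : (2 : F) ≠ 0) {k : ℕ} (hk : 1 ≤ k) :
    ∃ u : oGroup (oddQ (F := F) k), orderOf u = p := by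
  haveI : Finite (oGroup (oddQ (F := F) k)) := by
    haveI : Finite ((Unit ⊕ (Fin k ⊕ Fin k) → F) ≃ₗ[F] (Unit ⊕ (Fin k ⊕ Fin k) → F)) :=
      Finite.of_injective (fun g => (g : (Unit ⊕ (Fin k ⊕ Fin k) → F) → _)) DFunLike.coe_injective
    infer_instance
  refine exists_prime_orderOf_dvd_card' p (Int.natCast_dvd_natCast.1 ?_)
  rw [card_oGroup_odd (q := Fintype.card F) Nat.card_eq_fintype_card h2 k]
  obtain ⟨f, -, hf⟩ := FiniteField.card F p
  refine Dvd.dvd.mul_right (Dvd.dvd.mul_left ?_ _) _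
  rw [hf]
  push_cast
  rw [← pow_mul]
  exact dvd_pow_self _ (Nat.mul_pos f.pos (Nat.pow_pos hk)).ne'

omit [Fintype F] in
theorem det_of_mem_commutator {B : BilinForm F V} {g : bIso B} (hg : g ∈ commutator (bIso B)) :
    LinearEquiv.det g.1 = 1 :=
  MonoidHom.mem_ker.1 (Abelianization.commutator_subset_ker (LinearEquiv.det.comp (bIso B).subtype) hg)

omit [Fintype F] in
theorem sq_one_of_dim_one [FiniteDimensional F V] {B : BilinForm F V} (hB : B.Nondegenerate)
    (hV : finrank F V = 1) (g : bIso B) : ∃ c : F, c * c = 1 ∧ ∀ v, g.1 v = c • v := by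
  haveI : Nontrivial V := Module.nontrivial_of_finrank_eq_succ hV
  obtain ⟨v₀, hv₀⟩ := exists_ne (0 : V)
  have hs := (finrank_eq_one_iff_of_nonzero' v₀ hv₀).1 hV
  obtain ⟨c, hc⟩ := hs (g.1 v₀)
  refine ⟨c, ?_, fun v => ?_⟩
  · have hne : B v₀ v₀ ≠ 0 := fun h => hv₀ (hB.1 _ fun w => by
      obtain ⟨d, rfl⟩ := hs w
      rw [map_smul, h, smul_zero])
    have h := g.2 v₀ v₀
    simp only [← hc, map_smul, LinearMap.smul_apply, smul_eq_mul] at h
    rw [← mul_assoc] at h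
    exact mul_right_cancel₀ hne (h.trans (one_mul _).symm)
  · obtain ⟨d, rfl⟩ := hs v
    rw [map_smul, ← hc, smul_comm]

/-- Pairs of isometries inside the odd orthogonal group. -/
theorem exists_odd_embed [FiniteDimensional F V] (h2 : (2 : F) ≠ 0) {B : BilinForm F V} (hS : B.IsSymm)
    (hB : B.Nondegenerate) {m k n : ℕ} (hV : finrank F V = 2 * m) (hmk : m + k = n) :
    ∃ Ψ : bIso B × bIso (polarBilin (oddQ (F := F) k)) →* oGroup (oddQ (F := F) n), Function.Injective Ψ := by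
  obtain ⟨E⟩ := odd_transport h2 (bProd_symm hS (B₂ := polarBilin (oddQ (F := F) k))
    ⟨fun x y => polar_comm _ x y⟩) (bProd_nondeg hB (oddQ_nondeg h2 k)) (n := n) (by
      rw [Module.finrank_prod, hV, Module.finrank_fintype_fun_eq_card]; simp; omega)
  exact ⟨E.toMonoidHom.comp (prodHom _ _), E.injective.comp prodHom_injective⟩

theorem odd_mem_commutator [FiniteDimensional F V] (h2 : (2 : F) ≠ 0) {Q : QuadraticForm F V}
    (hQ : (polarBilin Q).Nondegenerate) (hn : 2 ≤ finrank F V) {g : oGroup Q} (hg : Odd (orderOf g)) :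
    g ∈ commutator (oGroup Q) := by
  obtain ⟨θ, hθ⟩ := exists_spinor hQ h2 hn
  obtain ⟨w, hw⟩ := hg
  have hsq : g = (g ^ (w + 1)) * g ^ (w + 1) := by
    rw [← pow_add, show w + 1 + (w + 1) = orderOf g + 1 by omega, pow_succ, pow_orderOf_eq_one, one_mul]
  rw [mem_commutator_iff hQ h2 hn hθ, hsq, map_mul, map_mul]
  refine ⟨Units.ext ?_, Int.units_mul_self _⟩
  rcases detO_eq_or hQ (g ^ (w + 1)) with e | e <;> rw [Units.val_mul, e] <;> simp

theorem mem_range_pomega (h2 : (2 : F) ≠ 0) {n : ℕ} (hn : 2 ≤ n) (a : ℕ) :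
    a ∈ Set.range (orderOf : Cfsg.POmega F (Cfsg.quadFormOdd n F) → ℕ) ↔
      ∃ g ∈ commutator (oGroup (oddQ (F := F) n)), orderOf g = a := by
  have hdim : finrank F (Unit ⊕ (Fin n ⊕ Fin n) → F) = 2 * n + 1 := by simp; omega
  have hc : Subgroup.center ↥(commutator (oGroup (oddQ (F := F) n))) = ⊥ := by
    refine (Subgroup.eq_bot_iff_forall _).2 fun g hg => ?_
    rcases center_omega_subset (oddQ_nondeg h2 n) (by omega) g hg with h | h
    · exact h
    · exact absurd (h ▸ g.2) (negIso_notMem_of_odd h2 ⟨n, hdim⟩)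
  rw [← oddQ_coe]
  let E := ((pOmegaEquiv (oddQ (F := F) n)).trans (QuotientGroup.quotientMulEquivOfEq hc)).trans
    (QuotientGroup.quotientBot (G := ↥(commutator (oGroup (oddQ (F := F) n)))))
  refine ⟨fun ⟨x, hx⟩ => ⟨(E x).1, (E x).2, ?_⟩, fun ⟨g, hg, ha⟩ => ⟨E.symm ⟨g, hg⟩, ?_⟩⟩
  · rw [orderOf_submonoid, E.orderOf_eq, hx]
  · rw [E.symm.orderOf_eq, ← ha]
    exact (orderOf_submonoid _).symm

end CfsgLib.PrimeGraphBC
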